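import Mathlib
import Cfsg.Agent.Lib.Helper5.QuadTwo.Cls

set_option autoImplicit false

/-!
# The sign of a nondegenerate quadratic space of even dimension over a finite field
-/

namespace Cfsg.Agent.Lib.Helper5.QuadSign

open QuadraticMap Module
open Cfsg.Agent.Lib.Helper5.QuadTwo

universe u v

section sign
variable {F : Type u} [Field F] [Fintype F] {V : Type v} [AddCommGroup V] [Module F V]

/-- `Q`, on a space of dimension `2k`, has sign `s`: it has `q^(2k-1) + s (q^k - q^(k-1))`
singular vectors -/
def HasSign (Q : V → F) (k : ℕ) (s : ℤ) : Prop :=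
  (Fintype.card F : ℤ) * zeros Q =
    (Fintype.card F : ℤ) ^ (2 * k) + s * ((Fintype.card F : ℤ) - 1) * (Fintype.card F : ℤ) ^ k

theorem card_sub_one_pos : (0 : ℤ) < (Fintype.card F : ℤ) - 1 := by
  have := Fintype.one_lt_card (α := F)
  omega

theorem card_pos' : (0 : ℤ) < (Fintype.card F : ℤ) := by
  have := Fintype.card_pos (α := F)
  omega

omit [AddCommGroup V] [Module F V] in
theorem HasSign.unique {Q : V → F} {k : ℕ} {s s' : ℤ} (h : HasSign Q k s) (h' : HasSign Q k s') :
    s = s' := by
  unfold HasSign at h h'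
  rw [h] at h'
  have h1 : (s - s') * (((Fintype.card F : ℤ) - 1) * (Fintype.card F : ℤ) ^ k) = 0 := by
    linear_combination h'
  rcases mul_eq_zero.1 h1 with h2 | h2
  · exact sub_eq_zero.1 h2
  · exfalso
    have := mul_pos (card_sub_one_pos (F := F)) (pow_pos (card_pos' (F := F)) k)
    omega

omit [AddCommGroup V] [Module F V] in
theorem HasSign.zeros_eq {V' : Type*} {Q : V → F} {Q' : V' → F} {k : ℕ} {s : ℤ}
    (h : HasSign Q k s) (h' : HasSign Q' k s) : zeros Q = zeros Q' := by
  unfold HasSign at h h'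
  rw [← h'] at h
  have := mul_left_cancel₀ (card_pos' (F := F)).ne' h
  exact_mod_cast this

omit [AddCommGroup V] [Module F V] in
theorem hasSign_congr {V' : Type*} (e : V ≃ V') (Q : V → F) (Q' : V' → F)
    (h : ∀ x, Q' (e x) = Q x) (k : ℕ) (s : ℤ) : HasSign Q k s ↔ HasSign Q' k s := by
  unfold HasSign
  rw [zeros_congr e Q Q' h]

variable [FiniteDimensional F V]

omit [Fintype F] in
theorem zeros_of_finrank_zero (Q : QuadraticForm F V) (h : finrank F V = 0) : zeros Q = 1 := by
  have : Subsingleton V := Module.finrank_zero_iff.1 h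
  apply zeros_eq_one_of_aniso
  intro v hv
  exact absurd (Subsingleton.elim v 0) hv

theorem hasSign_of_finrank_zero (Q : QuadraticForm F V) (h : finrank F V = 0) :
    HasSign Q 0 1 := by
  unfold HasSign
  rw [zeros_of_finrank_zero Q h]
  simp

omit [FiniteDimensional F V] in
theorem hasSign_of_aniso_plane (Q : QuadraticForm F V) (han : ∀ v, v ≠ 0 → Q v ≠ 0) :
    HasSign Q 1 (-1) := by
  unfold HasSign
  rw [zeros_eq_one_of_aniso Q han]
  push_cast
  ring

/-- peeling off a hyperbolic plane does not change the sign -/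
theorem hasSign_pair_iff {Q : QuadraticForm F V} {v w : V} (h : Pair Q v w) (hv : Q v = 0)
    (hw : Q w = 0) (k : ℕ) (hk : finrank F (pcompl Q v w) = 2 * k) (s : ℤ) :
    HasSign Q (k + 1) s ↔ HasSign (res Q (pcompl Q v w)) k s := by
  unfold HasSign
  have hz := zeros_pair_hyp h hv hw
  have hc : Nat.card (pcompl Q v w) = Fintype.card F ^ (2 * k) := by
    rw [Module.natCard_eq_pow_finrank (K := F) (V := pcompl Q v w), hk, Nat.card_eq_fintype_card]
  rw [hz, hc]
  have hq1 : 1 ≤ Fintype.card F := Fintype.card_pos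
  push_cast [hq1]
  have hq := (card_pos' (F := F)).ne'
  constructor
  · intro h1
    apply mul_left_cancel₀ hq
    linear_combination h1
  · intro h1
    linear_combination (Fintype.card F : ℤ) * h1

end sign

end Cfsg.Agent.Lib.Helper5.QuadSign
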