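import Mathlib
import Cfsg.Agent.Lib.Helper5.QuadSign.Sign

set_option autoImplicit false

/-!
# Totally singular subspaces of half the dimension, and fixed-point-free isometries
-/

namespace Cfsg.Agent.Lib.Helper5.QuadSign

open QuadraticMap Module
open Cfsg.Agent.Lib.Helper5.QuadTwo

universe u v

section ts
variable {F : Type u} [Field F] [Fintype F]

/-- a space with a totally singular subspace of half the dimension has sign `+` -/
theorem hasSign_of_ts : ∀ k : ℕ, ∀ (V : Type v) [AddCommGroup V] [Module F V]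
    [FiniteDimensional F V] (Q : QuadraticForm F V), Nd Q → finrank F V = 2 * k →
    ∀ L : Submodule F V, (∀ x ∈ L, Q x = 0) → k ≤ finrank F L → HasSign Q k 1 := by
  intro k
  induction k with
  | zero =>
    intro V _ _ _ Q _ hd _ _ _
    exact hasSign_of_finrank_zero Q (by omega)
  | succ k ih =>
    intro V _ _ _ Q hQ hd L hL hLd
    obtain ⟨⟨v, hvL⟩, hv⟩ := (Module.finrank_pos_iff_exists_ne_zero (R := F) (M := L)).1 (by omega)
    have hv0 : v ≠ 0 := fun h => hv (Subtype.ext h)
    have hQv : Q v = 0 := hL v hvL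
    obtain ⟨w, hw0, hp⟩ := exists_hyp_pair hQ hv0 hQv
    have hf := finrank_pcompl hp
    have hV₀ : finrank F (pcompl Q v w) = 2 * k := by omega
    -- the hyperplane orthogonal to `w`
    obtain ⟨K, hK⟩ : ∃ K : Submodule F V, K = LinearMap.ker ((polarBilin Q).flip w) := ⟨_, rfl⟩
    have hmemK : ∀ x, x ∈ K ↔ polar Q x w = 0 := by
      intro x
      rw [hK, LinearMap.mem_ker]
      rfl
    have hle : L ⊓ K ≤ pcompl Q v w := by
      intro x hx
      rw [Submodule.mem_inf] at hx
      refine ⟨?_, (hmemK x).1 hx.2⟩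
      unfold polar
      rw [hL _ (L.add_mem hx.1 hvL), hL x hx.1, hQv]
      ring
    have hlower : k ≤ finrank F ↥(L ⊓ K) := by
      have h1 := Submodule.finrank_sup_add_finrank_inf_eq L K
      have h2 := LinearMap.finrank_range_add_finrank_ker ((polarBilin Q).flip w)
      have h3 : finrank F (LinearMap.range ((polarBilin Q).flip w)) ≤ 1 := by
        have := Submodule.finrank_le (LinearMap.range ((polarBilin Q).flip w))
        rwa [Module.finrank_self] at this
      have h4 := Submodule.finrank_le (L ⊔ K)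
      rw [← hK] at h2
      omega
    have hcomap : k ≤ finrank F (Submodule.comap (pcompl Q v w).subtype (L ⊓ K)) := by
      rw [LinearEquiv.finrank_eq (Submodule.comapSubtypeEquivOfLe hle)]
      exact hlower
    have hts : ∀ x ∈ Submodule.comap (pcompl Q v w).subtype (L ⊓ K),
        res Q (pcompl Q v w) x = 0 := by
      intro x hx
      rw [Submodule.mem_comap] at hx
      exact hL _ (Submodule.mem_inf.1 hx).1
    have := ih (pcompl Q v w) (res Q _) (nd_pcompl hQ hp) hV₀ _ hts hcomap
    exact (hasSign_pair_iff hp hQv hw0 k hV₀ 1).2 this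

/-- an isometry of prime order `r` without nonzero fixed vectors: the number of singular
vectors is `1` modulo `r` -/
theorem zeros_modEq_one {V : Type v} [AddCommGroup V] [Module F V] [FiniteDimensional F V]
    (Q : QuadraticForm F V) (g : V →ₗ[F] V) (hiso : ∀ x, Q (g x) = Q x) (r : ℕ)
    [Fact r.Prime] (hr : g ^ r = 1) (hfix : ∀ v, g v = v → v = 0) :
    zeros Q ≡ 1 [MOD r] := by
  classical
  have : Finite V := Module.finite_of_finite F
  have : Fintype V := Fintype.ofFinite V
  obtain ⟨f, hf⟩ : ∃ f : Function.End {x : V // Q x = 0}, ∀ x, (f x).1 = g x.1 :=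
    ⟨fun x => ⟨g x.1, by rw [hiso]; exact x.2⟩, fun x => rfl⟩
  have hpow : ∀ (k : ℕ) (x : {x : V // Q x = 0}), ((f ^ k) x).1 = (g ^ k) x.1 := by
    intro k
    induction k with
    | zero => intro x; rfl
    | succ k ih =>
      intro x
      rw [pow_succ, pow_succ, Function.End.mul_def]
      show ((f ^ k) (f x)).1 = (g ^ k) (g x.1)
      rw [ih, hf]
  have hfr : f ^ r ^ 1 = 1 := by
    rw [pow_one]
    funext x
    apply Subtype.ext
    rw [hpow, hr]
    rfl
  have h1 := Equiv.Perm.card_fixedPoints_modEq hfr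
  have h2' : Nat.card (Function.fixedPoints f) = 1 := by
    rw [Nat.card_eq_one_iff_unique]
    refine ⟨⟨?_⟩, ⟨⟨⟨0, QuadraticMap.map_zero Q⟩, ?_⟩⟩⟩
    · rintro ⟨y, hy⟩ ⟨z, hz⟩
      apply Subtype.ext
      apply Subtype.ext
      have h3 : f y = y := hy
      have h4 := congrArg Subtype.val h3
      rw [hf] at h4
      have h5 : f z = z := hz
      have h6 := congrArg Subtype.val h5
      rw [hf] at h6
      show y.1 = z.1
      rw [hfix _ h4, hfix _ h6]
    · show f _ = _
      apply Subtype.ext
      rw [hf]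
      exact map_zero g
  rw [Fintype.card_eq_nat_card, Fintype.card_eq_nat_card, h2'] at h1
  exact h1

end ts

end Cfsg.Agent.Lib.Helper5.QuadSign
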