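import Mathlib
import Cfsg.Agent.Lib.Helper5.QuadSign.TS

set_option autoImplicit false

/-!
# Classification of nondegenerate quadratic spaces of even dimension by their sign
-/

namespace Cfsg.Agent.Lib.Helper5.QuadSign

open QuadraticMap Module
open Cfsg.Agent.Lib.Helper5.QuadTwo

universe u v

/-- the two geometric inputs of the classification: isotropy in dimension at least three, and
uniqueness of the anisotropic plane -/
structure Geo (F : Type u) [Field F] [Fintype F] : Prop where
  sing : ∀ (V : Type v) [AddCommGroup V] [Module F V] [FiniteDimensional F V]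
    (Q : QuadraticForm F V), Nd Q → 3 ≤ finrank F V → ∃ v : V, v ≠ 0 ∧ Q v = 0
  plane : ∀ (V V' : Type v) [AddCommGroup V] [Module F V] [AddCommGroup V'] [Module F V']
    [FiniteDimensional F V] [FiniteDimensional F V'] (Q : QuadraticForm F V)
    (Q' : QuadraticForm F V'), Nd Q → Nd Q' → finrank F V = 2 → finrank F V' = 2 →
    (∀ v, v ≠ 0 → Q v ≠ 0) → (∀ v, v ≠ 0 → Q' v ≠ 0) → ∃ φ : V ≃ₗ[F] V', ∀ x, Q' (φ x) = Q x

namespace Geo

variable {F : Type u} [Field F] [Fintype F] (G : Geo.{u, v} F)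

include G

/-- **Classification by the number of singular vectors**, even dimension. -/
theorem iso_of_zeros_eq_aux : ∀ k : ℕ, ∀ (V V' : Type v) [AddCommGroup V] [Module F V]
    [AddCommGroup V'] [Module F V'] [FiniteDimensional F V] [FiniteDimensional F V']
    (Q : QuadraticForm F V) (Q' : QuadraticForm F V'), Nd Q → Nd Q' → finrank F V = 2 * k →
    finrank F V' = 2 * k → zeros Q = zeros Q' → ∃ φ : V ≃ₗ[F] V', ∀ x, Q' (φ x) = Q x := by
  intro k
  induction k with
  | zero =>
    intro V V' _ _ _ _ _ _ Q Q' _ _ hn hn' _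
    exact iso_of_finrank_zero (Q := Q) Q' (by omega) (by omega)
  | succ k ih =>
  intro V V' _ _ _ _ _ _ Q Q' hQ hQ' hn hn' hz
  have : Finite V := Module.finite_of_finite F
  have : Finite V' := Module.finite_of_finite F
  by_cases hiso : ∃ v : V, v ≠ 0 ∧ Q v = 0
  · obtain ⟨v, hv, hv0⟩ := hiso
    have hz1 : 1 < zeros Q := one_lt_zeros_of Q v hv hv0
    obtain ⟨v', hv', hv0'⟩ : ∃ v' : V', v' ≠ 0 ∧ Q' v' = 0 := by
      by_contra hcon
      push Not at hcon
      have := zeros_eq_one_of_aniso Q' hcon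
      omega
    obtain ⟨w, hw0, hp⟩ := exists_hyp_pair hQ hv hv0
    obtain ⟨w', hw0', hp'⟩ := exists_hyp_pair hQ' hv' hv0'
    have hf := finrank_pcompl hp
    have hf' := finrank_pcompl hp'
    have hzz := zeros_pair_hyp hp hv0 hw0
    have hzz' := zeros_pair_hyp hp' hv0' hw0'
    have hc : Nat.card (pcompl Q v w) = Nat.card (pcompl Q' v' w') := by
      have e : finrank F (pcompl Q v w) = finrank F (pcompl Q' v' w') := by omega
      rw [Module.natCard_eq_pow_finrank (K := F) (V := pcompl Q v w),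
        Module.natCard_eq_pow_finrank (K := F) (V := pcompl Q' v' w'), e]
    have hz0 : zeros (res Q (pcompl Q v w)) = zeros (res Q' (pcompl Q' v' w')) := by
      rw [hzz, hzz', hc] at hz
      have hq : 0 < Fintype.card F := Fintype.card_pos
      exact Nat.eq_of_mul_eq_mul_left hq (Nat.add_right_cancel hz)
    obtain ⟨ψ, hψ⟩ := ih (pcompl Q v w) (pcompl Q' v' w') (res Q _)
      (res Q' _) (nd_pcompl hQ hp) (nd_pcompl hQ' hp') (by omega) (by omega) hz0
    exact glue hp hp' (by rw [hv0, hv0']) (by rw [hw0, hw0']) ψ hψ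
  · push Not at hiso
    have hz1 := zeros_eq_one_of_aniso Q hiso
    have hiso' : ∀ v' : V', v' ≠ 0 → Q' v' ≠ 0 := by
      by_contra hcon
      push Not at hcon
      obtain ⟨v', hv', hv0'⟩ := hcon
      have := one_lt_zeros_of Q' v' hv' hv0'
      omega
    have hk0 : k = 0 := by
      by_contra h
      obtain ⟨v, hv, hv0⟩ := G.sing V Q hQ (by omega)
      exact hiso v hv hv0
    subst hk0
    exact G.plane V V' Q Q' hQ hQ' hn hn' hiso hiso'

/-- every nondegenerate space of even dimension has a sign -/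
theorem hasSign_aux : ∀ k : ℕ, ∀ (V : Type v) [AddCommGroup V] [Module F V]
    [FiniteDimensional F V] (Q : QuadraticForm F V), Nd Q → finrank F V = 2 * k →
    HasSign Q k 1 ∨ HasSign Q k (-1) := by
  intro k
  induction k with
  | zero =>
    intro V _ _ _ Q _ hn
    exact Or.inl (hasSign_of_finrank_zero Q (by omega))
  | succ k ih =>
  intro V _ _ _ Q hQ hn
  by_cases hiso : ∃ v : V, v ≠ 0 ∧ Q v = 0
  · obtain ⟨v, hv, hv0⟩ := hiso
    obtain ⟨w, hw0, hp⟩ := exists_hyp_pair hQ hv hv0
    have hf := finrank_pcompl hp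
    have hV₀ : finrank F (pcompl Q v w) = 2 * k := by omega
    rcases ih (pcompl Q v w) (res Q _) (nd_pcompl hQ hp) hV₀ with h | h
    · exact Or.inl ((hasSign_pair_iff hp hv0 hw0 k hV₀ 1).2 h)
    · exact Or.inr ((hasSign_pair_iff hp hv0 hw0 k hV₀ (-1)).2 h)
  · push Not at hiso
    have hk0 : k = 0 := by
      by_contra h
      obtain ⟨v, hv, hv0⟩ := G.sing V Q hQ (by omega)
      exact hiso v hv hv0
    subst hk0
    exact Or.inr (hasSign_of_aniso_plane Q hiso)

theorem hasSign {V : Type v} [AddCommGroup V] [Module F V] [FiniteDimensional F V]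
    (Q : QuadraticForm F V) (hQ : Nd Q) (k : ℕ) (hk : finrank F V = 2 * k) :
    HasSign Q k 1 ∨ HasSign Q k (-1) :=
  G.hasSign_aux k V Q hQ hk

/-- **Classification by the sign.** -/
theorem iso_of_hasSign {V V' : Type v} [AddCommGroup V] [Module F V]
    [AddCommGroup V'] [Module F V'] [FiniteDimensional F V] [FiniteDimensional F V']
    (Q : QuadraticForm F V) (Q' : QuadraticForm F V') (hQ : Nd Q) (hQ' : Nd Q') (k : ℕ)
    (hk : finrank F V = 2 * k) (hk' : finrank F V' = 2 * k) (s : ℤ) (hs : HasSign Q k s)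
    (hs' : HasSign Q' k s) : ∃ φ : V ≃ₗ[F] V', ∀ x, Q' (φ x) = Q x :=
  G.iso_of_zeros_eq_aux k V V' Q Q' hQ hQ' hk hk' (hs.zeros_eq hs')

end Geo

end Cfsg.Agent.Lib.Helper5.QuadSign
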