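import Mathlib
import Cfsg.Agent.Lib.Helper5.QuadSign.Geo
import Cfsg.Agent.Lib.Helper5.OrthPrime.Classify

set_option autoImplicit false

/-!
# The geometric inputs of the classification, in characteristic two and in odd characteristic
-/

namespace Cfsg.Agent.Lib.Helper5.QuadSign

open QuadraticMap Module
open Cfsg.Agent.Lib.Helper5.QuadTwo Cfsg.Agent.Lib.Helper5.OrthPrime

universe u v

section two
variable {F : Type u} [Field F] [Fintype F]

theorem geo_two (h2 : (2 : F) = 0) : Geo.{u, v} F where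
  sing := fun _ _ _ _ Q _ hdim => exists_singular h2 Q hdim
  plane := by
    intro V V' _ _ _ _ _ _ Q Q' hQ hQ' hn hn' hiso hiso'
    obtain ⟨e, f, he, hef, hf⟩ := exists_norm_pair h2 Q hQ (by omega) hiso
    obtain ⟨e', f', he', hef', hf'⟩ := exists_norm_pair h2 Q' hQ' (by omega) hiso'
    obtain ⟨s, hs⟩ := exists_as h2 (Q' f') (Q f) hf' hf
    have hp := pair_of_polar_one h2 Q hef
    have hadj := adjust_pair h2 Q' he' hef' s
    have hp' := pair_of_polar_one h2 Q' hadj.1
    have hd := finrank_pcompl hp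
    have hd' := finrank_pcompl hp'
    obtain ⟨ψ, hψ⟩ := iso_of_finrank_zero (Q := res Q (pcompl Q e f))
      (res Q' (pcompl Q' e' (f' + s • e'))) (by omega) (by omega)
    exact glue hp hp' (by rw [he, he'])
      (by rw [hadj.2, hs, ← add_assoc, add_self_two h2, zero_add]) ψ hψ

theorem odd_card_of_two_ne_zero (h2 : (2 : F) ≠ 0) : Fintype.card F % 2 = 1 := by
  apply FiniteField.odd_card_of_char_ne_two
  intro hch
  apply h2
  have := ringChar.Nat.cast_ringChar (R := F)
  rw [hch] at this
  exact_mod_cast this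

omit [Fintype F] in
theorem q_eq_zero_of_polar_self (h2 : (2 : F) ≠ 0) {V : Type v} [AddCommGroup V] [Module F V]
    (Q : QuadraticForm F V) {x : V} (h : polar Q x x = 0) : Q x = 0 := by
  rw [polar_self, two_smul, ← two_mul] at h
  exact (mul_eq_zero.1 h).resolve_left h2

theorem sing_odd (h2 : (2 : F) ≠ 0) {V : Type v} [AddCommGroup V] [Module F V]
    [FiniteDimensional F V] (Q : QuadraticForm F V) (hQ : Nd Q) (hdim : 3 ≤ finrank F V) :
    ∃ v : V, v ≠ 0 ∧ Q v = 0 := by
  have hodd := odd_card_of_two_ne_zero h2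
  obtain ⟨n, hn⟩ : ∃ n, finrank F V = n + 1 := ⟨finrank F V - 1, by omega⟩
  have hS : Symm (polarBilin Q) := fun x y => polar_comm Q x y
  have hB : Nondeg (polarBilin Q) := hQ
  obtain ⟨e, b, he, hb⟩ := exists_diag h2 hodd n (polarBilin Q) hS hB hn
  have hb' : ∀ i j, polar Q (b i) (b j) = if i = j then diagLast n e i else 0 := hb
  obtain ⟨i0, hi0⟩ : ∃ i0 : Fin (n + 1), i0 = ⟨0, by omega⟩ := ⟨_, rfl⟩
  obtain ⟨i1, hi1⟩ : ∃ i1 : Fin (n + 1), i1 = ⟨1, by omega⟩ := ⟨_, rfl⟩
  have h01 : i0 ≠ i1 := by rw [hi0, hi1]; intro h; simpa using congrArg Fin.val h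
  have h0l : i0 ≠ Fin.last n := by
    rw [hi0]; intro h; have := congrArg Fin.val h; simp at this; omega
  have h1l : i1 ≠ Fin.last n := by
    rw [hi1]; intro h; have := congrArg Fin.val h; simp at this; omega
  have B00 : polar Q (b i0) (b i0) = 1 := by rw [hb', if_pos rfl, diagLast, if_neg h0l]
  have B11 : polar Q (b i1) (b i1) = 1 := by rw [hb', if_pos rfl, diagLast, if_neg h1l]
  have Bll : polar Q (b (Fin.last n)) (b (Fin.last n)) = e := by
    rw [hb', if_pos rfl, diagLast, if_pos rfl]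
  have B01 : polar Q (b i0) (b i1) = 0 := by rw [hb', if_neg h01]
  have B0l : polar Q (b i0) (b (Fin.last n)) = 0 := by rw [hb', if_neg h0l]
  have B1l : polar Q (b i1) (b (Fin.last n)) = 0 := by rw [hb', if_neg h1l]
  obtain ⟨x, y, hxy⟩ := exists_repr_one hodd (-e⁻¹) (-e⁻¹) (neg_ne_zero.2 (inv_ne_zero he))
    (neg_ne_zero.2 (inv_ne_zero he))
  have hee : e * e⁻¹ = 1 := mul_inv_cancel₀ he
  have hsum : x ^ 2 + y ^ 2 + e = 0 := by
    linear_combination (-e) * hxy - (x ^ 2 + y ^ 2) * hee
  refine ⟨x • b i0 + y • b i1 + b (Fin.last n), ?_, ?_⟩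
  · intro h
    have h3 : polar Q (x • b i0 + y • b i1 + b (Fin.last n)) (b (Fin.last n)) = e := by
      rw [polar_add_left, polar_add_left, polar_smul_left, polar_smul_left, B0l, B1l, Bll,
        smul_zero, smul_zero, zero_add, zero_add]
    rw [h, polar_zero_left] at h3
    exact he h3.symm
  · apply q_eq_zero_of_polar_self h2
    rw [polar_add_left, polar_add_left, polar_add_right, polar_add_right, polar_add_right,
      polar_add_right, polar_add_right, polar_add_right]
    simp only [polar_smul_left, polar_smul_right, smul_eq_mul, B00, B11, Bll, B01, B0l, B1l,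
      polar_comm Q (b i1) (b i0), polar_comm Q (b (Fin.last n)) (b i0),
      polar_comm Q (b (Fin.last n)) (b i1)]
    linear_combination hsum

theorem plane_odd (h2 : (2 : F) ≠ 0) {V V' : Type v} [AddCommGroup V] [Module F V]
    [AddCommGroup V'] [Module F V'] [FiniteDimensional F V] [FiniteDimensional F V']
    (Q : QuadraticForm F V) (Q' : QuadraticForm F V') (hQ : Nd Q) (hQ' : Nd Q')
    (hn : finrank F V = 2) (hn' : finrank F V' = 2) (hiso : ∀ v, v ≠ 0 → Q v ≠ 0)
    (hiso' : ∀ v, v ≠ 0 → Q' v ≠ 0) : ∃ φ : V ≃ₗ[F] V', ∀ x, Q' (φ x) = Q x := by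
  classical
  have hodd := odd_card_of_two_ne_zero h2
  have hS : Symm (polarBilin Q) := fun x y => polar_comm Q x y
  have hS' : Symm (polarBilin Q') := fun x y => polar_comm Q' x y
  -- the discriminant of an anisotropic plane is minus a nonsquare
  have key : ∀ {U : Type v} [AddCommGroup U] [Module F U] [FiniteDimensional F U]
      (P : QuadraticForm F U), Nd P → finrank F U = 2 → (∀ v, v ≠ 0 → P v ≠ 0) →
      ∃ e : F, e ≠ 0 ∧ IsDisc (polarBilin P) e ∧ ¬ IsSquare (-e) := by
    intro U _ _ _ P hP hU han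
    obtain ⟨e, b, he, hb⟩ := exists_diag h2 hodd 1 (polarBilin P)
      (fun x y => polar_comm P x y) hP hU
    refine ⟨e, he, isDisc_of_diag (polarBilin P) b he hb hU, ?_⟩
    rintro ⟨s, hs⟩
    have hb' : ∀ i j, polar P (b i) (b j) = if i = j then diagLast 1 e i else 0 := hb
    have B00 : polar P (b 0) (b 0) = 1 := by
      rw [hb', if_pos rfl, diagLast, if_neg (by decide)]
    have B11 : polar P (b 1) (b 1) = e := by
      rw [hb', if_pos rfl, diagLast, if_pos (by decide)]
    have B01 : polar P (b 0) (b 1) = 0 := by rw [hb', if_neg (by decide)]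
    apply han (s • b 0 + b 1)
    · intro h
      have h3 : polar P (s • b 0 + b 1) (b 1) = e := by
        rw [polar_add_left, polar_smul_left, B01, B11, smul_zero, zero_add]
      rw [h, polar_zero_left] at h3
      exact he h3.symm
    · apply q_eq_zero_of_polar_self h2
      rw [polar_add_left, polar_add_right, polar_add_right]
      simp only [polar_smul_left, polar_smul_right, smul_eq_mul, B00, B11, B01,
        polar_comm P (b 1) (b 0)]
      linear_combination -hs
  obtain ⟨e, he, hd, hns⟩ := key Q hQ hn hiso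
  obtain ⟨e', he', hd', hns'⟩ := key Q' hQ' hn' hiso'
  have hsq : IsSquare ((-e') * (-e)) := by
    rw [← quadraticChar_one_iff_isSquare (mul_ne_zero (neg_ne_zero.2 he') (neg_ne_zero.2 he)),
      map_mul, quadraticChar_neg_one_iff_not_isSquare.2 hns,
      quadraticChar_neg_one_iff_not_isSquare.2 hns']
    norm_num
  obtain ⟨u, hu⟩ := hsq
  have hu0 : u ≠ 0 := by
    rintro rfl
    rw [mul_zero] at hu
    exact mul_ne_zero (neg_ne_zero.2 he') (neg_ne_zero.2 he) hu
  obtain ⟨φ, hφ⟩ := exists_isometry_of_isDisc h2 hodd (polarBilin Q) (polarBilin Q') hS hS'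
    hQ hQ' (by rw [hn, hn']) hd hd' ⟨u / e, div_ne_zero hu0 he, by
      field_simp
      linear_combination hu⟩
  refine ⟨φ, fun x => ?_⟩
  have h1 : polar Q' (φ x) (φ x) = polar Q x x := hφ x x
  rw [polar_self, polar_self, two_smul, two_smul, ← two_mul, ← two_mul] at h1
  exact mul_left_cancel₀ h2 h1

theorem geo_odd (h2 : (2 : F) ≠ 0) : Geo.{u, v} F where
  sing := fun _ _ _ _ Q hQ hdim => sing_odd h2 Q hQ hdim
  plane := fun _ _ _ _ _ _ _ _ Q Q' hQ hQ' hn hn' hiso hiso' =>
    plane_odd h2 Q Q' hQ hQ' hn hn' hiso hiso'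

theorem geo_all : Geo.{u, v} F := by
  by_cases h2 : (2 : F) = 0
  · exact geo_two h2
  · exact geo_odd h2

end two

end Cfsg.Agent.Lib.Helper5.QuadSign
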