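import Mathlib
import Cfsg.Prelude.Def_Classical
import Cfsg.Agent.Lib.Helper5.QuadSign.GeoInst
import Cfsg.Agent.Lib.Helper5.QuadTwo.Cancel2

set_option autoImplicit false

/-!
# The standard hyperbolic quadratic form `quadFormPlus`
-/

namespace Cfsg.Agent.Lib.Helper5.QuadSign

open QuadraticMap Module Cfsg
open Cfsg.Agent.Lib.Helper5.QuadTwo

universe u

section plus
variable {F : Type u} [Field F] (m : ℕ)

/-- `quadFormPlus` as a quadratic form -/
noncomputable def qPlus : QuadraticForm F (Fin m ⊕ Fin m → F) :=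
  (∑ i : Fin m, linMulLin (LinearMap.proj (R := F) (φ := fun _ : Fin m ⊕ Fin m => F) (Sum.inl i))
    (LinearMap.proj (Sum.inr i))).copy (quadFormPlus m F) (by
      funext v
      rw [sum_apply]
      rfl)

theorem qPlus_coe : ⇑(qPlus (F := F) m) = quadFormPlus m F := rfl

theorem qPlus_apply (v : Fin m ⊕ Fin m → F) :
    qPlus m v = ∑ i : Fin m, v (.inl i) * v (.inr i) := rfl

theorem polar_qPlus (x y : Fin m ⊕ Fin m → F) :
    polar (qPlus (F := F) m) x y =
      ∑ i : Fin m, (x (.inl i) * y (.inr i) + y (.inl i) * x (.inr i)) := by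
  unfold polar
  rw [qPlus_apply, qPlus_apply, qPlus_apply, ← Finset.sum_sub_distrib, ← Finset.sum_sub_distrib]
  apply Finset.sum_congr rfl
  intro i _
  simp only [Pi.add_apply]
  ring

theorem nd_qPlus : Nd (qPlus (F := F) m) := by
  classical
  intro v hv
  funext k
  rcases k with k | k
  · have h := hv (Pi.single (Sum.inr k) 1)
    rw [polar_qPlus] at h
    simp [Pi.single_apply] at h
    exact h
  · have h := hv (Pi.single (Sum.inl k) 1)
    rw [polar_qPlus] at h
    simp [Pi.single_apply] at h
    exact h

theorem finrank_plus : finrank F (Fin m ⊕ Fin m → F) = 2 * m := by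
  rw [Module.finrank_fintype_fun_eq_card, Fintype.card_sum, Fintype.card_fin]
  ring

/-- the totally singular subspace `y = 0` -/
noncomputable def plusL : Submodule F (Fin m ⊕ Fin m → F) :=
  LinearMap.ker (LinearMap.funLeft F F (Sum.inr : Fin m → Fin m ⊕ Fin m))

theorem mem_plusL (v : Fin m ⊕ Fin m → F) : v ∈ plusL (F := F) m ↔ ∀ i, v (.inr i) = 0 := by
  unfold plusL
  rw [LinearMap.mem_ker]
  constructor
  · intro h i
    exact congrFun h i
  · intro h
    funext i
    exact h i

theorem finrank_plusL : finrank F (plusL (F := F) m) = m := by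
  have h1 := LinearMap.finrank_range_add_finrank_ker
    (LinearMap.funLeft F F (Sum.inr : Fin m → Fin m ⊕ Fin m))
  have h2 : LinearMap.range (LinearMap.funLeft F F (Sum.inr : Fin m → Fin m ⊕ Fin m)) = ⊤ := by
    rw [LinearMap.range_eq_top]
    intro y
    exact ⟨Sum.elim 0 y, by funext i; rfl⟩
  rw [h2, finrank_top, Module.finrank_fintype_fun_eq_card, Fintype.card_fin, finrank_plus] at h1
  unfold plusL
  omega

variable [Fintype F]

theorem hasSign_qPlus : HasSign (qPlus (F := F) m) m 1 := by
  refine hasSign_of_ts m (Fin m ⊕ Fin m → F) (qPlus m) (nd_qPlus m) (finrank_plus m) (plusL m) ?_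
    (finrank_plusL m).ge
  intro x hx
  rw [mem_plusL] at hx
  rw [qPlus_apply]
  apply Finset.sum_eq_zero
  intro i _
  rw [hx i, mul_zero]

/-- all nonzero values of `quadFormPlus` are taken equally often -/
theorem balanced_qPlus (c : F) (hc : c ≠ 0) :
    cnt (qPlus (F := F) m) c = cnt (qPlus (F := F) m) 1 := by
  obtain ⟨e, he⟩ : ∃ e : (Fin m ⊕ Fin m → F) ≃ (Fin m ⊕ Fin m → F),
      ∀ v, e v = Sum.elim (fun i => c * v (.inl i)) (fun i => v (.inr i)) :=
    ⟨{ toFun := fun v => Sum.elim (fun i => c * v (.inl i)) (fun i => v (.inr i))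
       invFun := fun v => Sum.elim (fun i => c⁻¹ * v (.inl i)) (fun i => v (.inr i))
       left_inv := fun v => by
        funext k
        rcases k with k | k
        · simp only [Sum.elim_inl]
          rw [← mul_assoc, inv_mul_cancel₀ hc, one_mul]
        · rfl
       right_inv := fun v => by
        funext k
        rcases k with k | k
        · simp only [Sum.elim_inl]
          rw [← mul_assoc, mul_inv_cancel₀ hc, one_mul]
        · rfl }, fun v => rfl⟩
  have h1 := cnt_congr_equiv e
    (fun y => c * qPlus (F := F) m y) (qPlus (F := F) m) (fun y => by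
      rw [he, qPlus_apply, qPlus_apply, Finset.mul_sum]
      apply Finset.sum_congr rfl
      intro i _
      simp only [Sum.elim_inl, Sum.elim_inr]
      ring) c
  rw [← h1]
  have h3 := cnt_mul_left (fun y => qPlus (F := F) m y) hc 1
  rw [mul_one] at h3
  exact h3

end plus

end Cfsg.Agent.Lib.Helper5.QuadSign
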