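import Mathlib
import Cfsg.Agent.Lib.Helper5.QuadSign.Std

set_option autoImplicit false

/-!
# The standard quadratic form of minus type `quadFormMinus`
-/

namespace Cfsg.Agent.Lib.Helper5.QuadSign

open QuadraticMap Module Cfsg
open Cfsg.Agent.Lib.Helper5.QuadTwo

universe u

section minus
variable {F : Type u} [Field F] (m : ℕ) (a c : F)

/-- the binary form `z₀² + a z₀ z₁ + c z₁²` -/
noncomputable def qBin : QuadraticForm F (Fin 2 → F) :=
  (linMulLin (LinearMap.proj (R := F) (φ := fun _ : Fin 2 => F) 0) (LinearMap.proj 0) +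
    a • linMulLin (LinearMap.proj (R := F) (φ := fun _ : Fin 2 => F) 0) (LinearMap.proj 1) +
    c • linMulLin (LinearMap.proj (R := F) (φ := fun _ : Fin 2 => F) 1) (LinearMap.proj 1)).copy
    (fun z => z 0 ^ 2 + a * z 0 * z 1 + c * z 1 ^ 2) (by
      funext z
      simp only [add_apply, smul_apply, linMulLin_apply,
        LinearMap.proj_apply, smul_eq_mul]
      ring)

theorem qBin_apply (z : Fin 2 → F) : qBin a c z = z 0 ^ 2 + a * z 0 * z 1 + c * z 1 ^ 2 := rfl

theorem polar_qBin (x y : Fin 2 → F) :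
    polar (qBin a c) x y = 2 * x 0 * y 0 + a * (x 0 * y 1 + x 1 * y 0) + 2 * c * x 1 * y 1 := by
  unfold polar
  rw [qBin_apply, qBin_apply, qBin_apply]
  simp only [Pi.add_apply]
  ring

/-- `quadFormMinus` as a quadratic form -/
noncomputable def qMinus : QuadraticForm F ((Fin m ⊕ Fin m) ⊕ Fin 2 → F) :=
  ((qPlus m).comp (LinearMap.funLeft F F (Sum.inl : Fin m ⊕ Fin m → (Fin m ⊕ Fin m) ⊕ Fin 2)) +
    (qBin a c).comp (LinearMap.funLeft F F (Sum.inr : Fin 2 → (Fin m ⊕ Fin m) ⊕ Fin 2))).copy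
    (quadFormMinus m F a c) (by
      funext v
      rfl)

theorem qMinus_coe : ⇑(qMinus (F := F) m a c) = quadFormMinus m F a c := rfl

theorem qMinus_apply (v : (Fin m ⊕ Fin m) ⊕ Fin 2 → F) :
    qMinus m a c v = qPlus m (v ∘ Sum.inl) + qBin a c (v ∘ Sum.inr) := rfl

theorem polar_qMinus (x y : (Fin m ⊕ Fin m) ⊕ Fin 2 → F) :
    polar (qMinus m a c) x y = polar (qPlus m) (x ∘ Sum.inl) (y ∘ Sum.inl) +
      polar (qBin a c) (x ∘ Sum.inr) (y ∘ Sum.inr) := by
  unfold polar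
  rw [qMinus_apply, qMinus_apply, qMinus_apply]
  have h1 : (x + y) ∘ (Sum.inl : Fin m ⊕ Fin m → (Fin m ⊕ Fin m) ⊕ Fin 2) =
      x ∘ Sum.inl + y ∘ Sum.inl := rfl
  have h2 : (x + y) ∘ (Sum.inr : Fin 2 → (Fin m ⊕ Fin m) ⊕ Fin 2) =
      x ∘ Sum.inr + y ∘ Sum.inr := rfl
  rw [h1, h2]
  ring

theorem finrank_minus : finrank F ((Fin m ⊕ Fin m) ⊕ Fin 2 → F) = 2 * (m + 1) := by
  rw [Module.finrank_fintype_fun_eq_card, Fintype.card_sum, Fintype.card_sum, Fintype.card_fin,
    Fintype.card_fin]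
  ring

variable {a c}

theorem nd_qBin [Finite F] (hac : ∀ z₁ z₂ : F, z₁ ^ 2 + a * z₁ * z₂ + c * z₂ ^ 2 = 0 → z₁ = 0 ∧ z₂ = 0) :
    Nd (qBin a c) := by
  intro z hz
  have hA := hz ![1, 0]
  have hB := hz ![0, 1]
  rw [polar_qBin] at hA hB
  simp only [Matrix.cons_val_zero, Matrix.cons_val_one] at hA hB
  have hA' : 2 * z 0 + a * z 1 = 0 := by linear_combination hA
  have hB' : a * z 0 + 2 * c * z 1 = 0 := by linear_combination hB
  have hz0 : z 0 = 0 ∧ z 1 = 0 := by
    by_cases h2 : (2 : F) = 0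
    · rw [h2, zero_mul, zero_add] at hA'
      rw [h2, zero_mul, zero_mul, add_zero] at hB'
      by_cases ha : a = 0
      · exfalso
        obtain ⟨s, hs⟩ := exists_sq h2 c
        have := hac s 1 (by
          rw [ha, zero_mul, zero_mul, add_zero, one_pow, mul_one, pow_two, hs]
          exact add_self_two h2 c)
        exact one_ne_zero this.2
      · exact ⟨(mul_eq_zero.1 hB').resolve_left ha, (mul_eq_zero.1 hA').resolve_left ha⟩
    · apply hac
      have h4 : (4 : F) ≠ 0 := by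
        have : (4 : F) = 2 * 2 := by norm_num
        rw [this]
        exact mul_ne_zero h2 h2
      have : 4 * (z 0 ^ 2 + a * z 0 * z 1 + c * z 1 ^ 2) = 0 := by
        linear_combination (2 * z 0) * hA' + 2 * z 1 * hB'
      exact (mul_eq_zero.1 this).resolve_left h4
  funext k
  fin_cases k
  · exact hz0.1
  · exact hz0.2

theorem nd_qMinus [Finite F]
    (hac : ∀ z₁ z₂ : F, z₁ ^ 2 + a * z₁ * z₂ + c * z₂ ^ 2 = 0 → z₁ = 0 ∧ z₂ = 0) :
    Nd (qMinus m a c) := by
  intro v hv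
  have h1 : v ∘ Sum.inl = 0 := by
    apply nd_qPlus m
    intro w
    have := hv (Sum.elim w 0)
    rw [polar_qMinus] at this
    have e1 : (Sum.elim w (0 : Fin 2 → F)) ∘ Sum.inl = w := rfl
    have e2 : (Sum.elim w (0 : Fin 2 → F)) ∘ Sum.inr = 0 := rfl
    rw [e1, e2, polar_zero_left, add_zero] at this
    exact this
  have h2 : v ∘ Sum.inr = 0 := by
    apply nd_qBin hac
    intro w
    have := hv (Sum.elim 0 w)
    rw [polar_qMinus] at this
    have e1 : (Sum.elim (0 : Fin m ⊕ Fin m → F) w) ∘ Sum.inl = 0 := rfl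
    have e2 : (Sum.elim (0 : Fin m ⊕ Fin m → F) w) ∘ Sum.inr = w := rfl
    rw [e1, e2, polar_zero_left, zero_add] at this
    exact this
  funext k
  rcases k with k | k
  · exact congrFun h1 k
  · exact congrFun h2 k

theorem hasSign_qMinus [Fintype F]
    (hac : ∀ z₁ z₂ : F, z₁ ^ 2 + a * z₁ * z₂ + c * z₂ ^ 2 = 0 → z₁ = 0 ∧ z₂ = 0) :
    HasSign (qMinus m a c) (m + 1) (-1) := by
  classical
  unfold HasSign
  have hcnt : cnt (qMinus m a c) 0 =
      cnt (fun p : (Fin m ⊕ Fin m → F) × (Fin 2 → F) => qPlus m p.1 + qBin a c p.2) 0 :=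
    cnt_congr_equiv (Equiv.sumArrowEquivProdArrow (Fin m ⊕ Fin m) (Fin 2) F) (qMinus m a c)
      (fun p : (Fin m ⊕ Fin m → F) × (Fin 2 → F) => qPlus m p.1 + qBin a c p.2) (fun v => rfl) 0
  have hbin : cnt (qBin a c) 0 = 1 := by
    apply cnt_eq_one_of _ _ 0 (QuadraticMap.map_zero _)
    intro z hz
    rw [qBin_apply] at hz
    obtain ⟨h0, h1⟩ := hac _ _ hz
    funext k
    fin_cases k
    · exact h0
    · exact h1
  have hsum := cnt_add_of_balanced (qPlus (F := F) m) (qBin a c) _ _ rfl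
    (fun d hd => balanced_qPlus m d hd)
  rw [hbin] at hsum
  have hcard := card_eq_of_balanced (qPlus (F := F) m) _ (fun d hd => balanced_qPlus m d hd)
  have hsign := hasSign_qPlus (F := F) m
  unfold HasSign at hsign
  rw [zeros_eq_cnt] at hsign ⊢
  rw [hcnt, hsum]
  have hc1 : Fintype.card (Fin m ⊕ Fin m → F) = Fintype.card F ^ (2 * m) := by
    rw [Fintype.card_fun, Fintype.card_sum, Fintype.card_fin, two_mul]
  have hc2 : Fintype.card (Fin 2 → F) = Fintype.card F ^ 2 := by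
    rw [Fintype.card_fun, Fintype.card_fin]
  rw [hc1] at hcard
  rw [hc2]
  have hq1 : 1 ≤ Fintype.card F := Fintype.card_pos
  have hq2 : 1 ≤ Fintype.card F ^ 2 := Nat.one_le_pow _ _ Fintype.card_pos
  have hcard' : ((Fintype.card F : ℤ)) ^ (2 * m) = (cnt (qPlus (F := F) m) 0 : ℤ) +
      ((Fintype.card F : ℤ) - 1) * (cnt (qPlus (F := F) m) 1 : ℤ) := by
    have := congrArg (Nat.cast (R := ℤ)) hcard
    push_cast [hq1] at this
    exact this
  push_cast [hq2]
  rw [show 2 * (m + 1) = 2 * m + 2 by ring, pow_add, pow_succ]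
  linear_combination (-(Fintype.card F : ℤ)) * hsign -
    (Fintype.card F : ℤ) * ((Fintype.card F : ℤ) + 1) * hcard'

end minus

end Cfsg.Agent.Lib.Helper5.QuadSign
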