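import Mathlib
import Cfsg.Agent.Lib.Helper5.QuadSign.TS

set_option autoImplicit false

/-!
# The sign of a space with a fixed-point-free isometry of prime order `r`,
when `q` has even order modulo `r`
-/

namespace Cfsg.Agent.Lib.Helper5.QuadSign

open QuadraticMap Module
open Cfsg.Agent.Lib.Helper5.QuadTwo

universe u v

theorem sign_eq_of_modEq {q r i k s : ℕ} [Fact r.Prime] (hr2 : r ≠ 2)
    (hi : orderOf (q : ZMod r) = i) (hev : Even i) (hi0 : 0 < i) (hk : 2 * k = i * s) (σ : ℤ)
    (hσ : σ = 1 ∨ σ = -1) (N : ℕ)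
    (hN : (q : ℤ) * N = (q : ℤ) ^ (2 * k) + σ * ((q : ℤ) - 1) * (q : ℤ) ^ k)
    (hmod : N ≡ 1 [MOD r]) : σ = (-1) ^ s := by
  have hr : r.Prime := Fact.out
  obtain ⟨e, he⟩ := hev
  have hke : k = e * s := by
    have : 2 * k = 2 * (e * s) := by rw [hk, he]; ring
    omega
  have hN1 : ((N : ℕ) : ZMod r) = 1 := by
    have := (ZMod.natCast_eq_natCast_iff _ _ _).2 hmod
    rwa [Nat.cast_one] at this
  have h2 : (2 : ZMod r) ≠ 0 := by
    intro h
    have h' : ((2 : ℕ) : ZMod r) = 0 := by exact_mod_cast h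
    rw [ZMod.natCast_eq_zero_iff] at h'
    exact hr2 ((Nat.prime_dvd_prime_iff_eq hr Nat.prime_two).1 h')
  obtain ⟨x, hx⟩ : ∃ x : ZMod r, x = (q : ZMod r) := ⟨_, rfl⟩
  rw [← hx] at hi
  -- `x ^ e = -1`
  have hxe : x ^ e = -1 := by
    have h1 : (x ^ e) ^ 2 = 1 := by
      rw [← pow_mul, mul_comm, two_mul, ← he, ← hi]
      exact pow_orderOf_eq_one x
    rcases sq_eq_one_iff.1 h1 with h | h
    · exfalso
      have h3 := orderOf_dvd_of_pow_eq_one h
      rw [hi] at h3
      have := Nat.le_of_dvd (by omega) h3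
      omega
    · exact h
  have hxk : x ^ k = (-1) ^ s := by rw [hke, pow_mul, hxe]
  -- the counting equation in `ZMod r`
  have heq : x * 1 = (x ^ k) ^ 2 + (σ : ZMod r) * (x - 1) * x ^ k := by
    have := congrArg (Int.cast : ℤ → ZMod r) hN
    push_cast at this
    rw [hN1, ← hx] at this
    rw [this]
    ring
  have hx1 : x ≠ 1 := by
    intro h
    rw [h, orderOf_one] at hi
    omega
  rcases hσ with rfl | rfl <;> rcases Nat.even_or_odd s with hs | hs
  · rw [hs.neg_one_pow]
  · exfalso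
    rw [hxk, hs.neg_one_pow] at heq
    apply hx1
    have h3 : 2 * (x - 1) = 0 := by
      push_cast at heq
      linear_combination heq
    have := (mul_eq_zero.1 h3).resolve_left h2
    exact sub_eq_zero.1 this
  · exfalso
    rw [hxk, hs.neg_one_pow] at heq
    apply hx1
    have h3 : 2 * (x - 1) = 0 := by
      push_cast at heq
      linear_combination heq
    have := (mul_eq_zero.1 h3).resolve_left h2
    exact sub_eq_zero.1 this
  · rw [hs.neg_one_pow]

section fpf
variable {F : Type u} [Field F] [Fintype F] {V : Type v} [AddCommGroup V] [Module F V]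
  [FiniteDimensional F V]

/-- the sign of a space with a fixed-point-free isometry of odd prime order `r`, when the order
`i` of `q` modulo `r` is even: it is `(-1) ^ (dim / i)` -/
theorem sign_of_fpf (Q : QuadraticForm F V) (g : V →ₗ[F] V) (hiso : ∀ x, Q (g x) = Q x) (r : ℕ)
    [Fact r.Prime] (hr2 : r ≠ 2) (hr : g ^ r = 1) (hfix : ∀ v, g v = v → v = 0) {i k s : ℕ}
    (hi : orderOf ((Fintype.card F : ℕ) : ZMod r) = i) (hev : Even i) (hi0 : 0 < i)
    (hk : 2 * k = i * s) (σ : ℤ) (hσ : σ = 1 ∨ σ = -1) (hs : HasSign Q k σ) : σ = (-1) ^ s :=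
  sign_eq_of_modEq hr2 hi hev hi0 hk σ hσ (zeros Q) hs (zeros_modEq_one Q g hiso r hr hfix)

end fpf

end Cfsg.Agent.Lib.Helper5.QuadSign
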