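import Mathlib
import Cfsg.Agent.Lib.Helper5.QuadSign.TS
import Cfsg.Agent.Lib.Helper5.SemiConj.Poly

set_option autoImplicit false

/-!
# A totally singular subspace from a pair of dual factors of the minimal polynomial
-/

namespace Cfsg.Agent.Lib.Helper5.QuadSign

open QuadraticMap Module Polynomial
open Cfsg.Agent.Lib.Helper5.QuadTwo Cfsg.Agent.Lib.Helper5.SemiConj

universe u v

section dual
variable {F : Type u} [Field F] {V : Type v} [AddCommGroup V] [Module F V]
  (Q : QuadraticForm F V) (g : V →ₗ[F] V) (hiso : ∀ x, Q (g x) = Q x)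

include hiso

theorem polar_iso (x y : V) : polar Q (g x) (g y) = polar Q x y := by
  unfold polar
  rw [← map_add, hiso, hiso, hiso]

theorem polar_iso_pow (j : ℕ) (x y : V) : polar Q ((g ^ j) x) ((g ^ j) y) = polar Q x y := by
  induction j generalizing x y with
  | zero => rfl
  | succ j ih =>
    rw [pow_succ, Module.End.mul_apply, Module.End.mul_apply, ih, polar_iso Q g hiso]

theorem polar_pow_pow {j d : ℕ} (hj : j ≤ d) (x y : V) :
    polar Q ((g ^ j) x) ((g ^ d) y) = polar Q x ((g ^ (d - j)) y) := by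
  have h1 : (g ^ d) y = (g ^ j) ((g ^ (d - j)) y) := by
    rw [← Module.End.mul_apply, ← pow_add, Nat.add_sub_cancel' hj]
  rw [h1, polar_iso_pow Q g hiso]

/-- the adjoint of a polynomial in `g`, up to a power of `g` -/
theorem polar_aeval_pow (p : F[X]) (d : ℕ) (hd : p.natDegree ≤ d) (x y : V) :
    polar Q (aeval g p x) ((g ^ d) y) = polar Q x (aeval g (p.reflect d) y) := by
  revert x y
  apply induction_with_natDegree_le (fun p => ∀ x y : V,
    polar Q (aeval g p x) ((g ^ d) y) = polar Q x (aeval g (p.reflect d) y)) d ?_ ?_ ?_ p hd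
  · intro x y
    rw [reflect_zero, map_zero, LinearMap.zero_apply, LinearMap.zero_apply, polar_zero_left,
      polar_zero_right]
  · intro n c _ hn x y
    rw [reflect_C_mul_X_pow, revAt_le hn, aeval_mul_apply, aeval_C_apply, aeval_X_pow_apply,
      aeval_mul_apply, aeval_C_apply, aeval_X_pow_apply, polar_smul_left, polar_smul_right,
      polar_pow_pow Q g hiso hn]
  · intro p q _ _ hp hq x y
    rw [reflect_add, map_add, map_add, LinearMap.add_apply, LinearMap.add_apply, polar_add_left,
      polar_add_right, hp, hq]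

variable (gi : V →ₗ[F] V) (gi_g : ∀ x, gi (g x) = x) (g_gi : ∀ x, g (gi x) = x)

include gi_g g_gi

/-- the kernel of `a(g)` is totally isotropic when the reverse of a coprime `b` is a multiple
of `a` -/
theorem polar_ker_eq_zero (a b : F[X]) (hab : IsCoprime a b) (u' : F)
    (hrb : b.reverse = C u' * a) (x y : V) (hx : aeval g a x = 0) (hy : aeval g a y = 0) :
    polar Q x y = 0 := by
  obtain ⟨s, t, hst⟩ := hab
  -- `y = b(g) y''`
  obtain ⟨y'', hy'', hyy⟩ : ∃ y'', aeval g a y'' = 0 ∧ y = aeval g b y'' := by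
    refine ⟨aeval g t y, ?_, ?_⟩
    · rw [aeval_comm_apply, hy, map_zero]
    · have h1 : aeval g (s * a + t * b) y = y := by rw [hst, aeval_one_apply]
      rw [map_add, LinearMap.add_apply, aeval_mul_apply, hy, map_zero, zero_add, mul_comm,
        aeval_mul_apply] at h1
      exact h1.symm
  -- `x = g ^ d x₀`
  obtain ⟨d, hd⟩ : ∃ d, d = b.natDegree := ⟨_, rfl⟩
  have hgi_pow : ∀ (k : ℕ) (z : V), (g ^ k) ((gi ^ k) z) = z := by
    intro k
    induction k with
    | zero => intro z; rfl
    | succ k ih =>
      intro z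
      rw [pow_succ, pow_succ', Module.End.mul_apply, Module.End.mul_apply, g_gi, ih]
  have hinj : ∀ (k : ℕ) (z : V), (g ^ k) z = 0 → z = 0 := by
    intro k
    induction k with
    | zero => intro z hz; exact hz
    | succ k ih =>
      intro z hz
      rw [pow_succ, Module.End.mul_apply] at hz
      have := ih _ hz
      rw [← gi_g z, this, map_zero]
  obtain ⟨x₀, hx₀⟩ : ∃ x₀, x = (g ^ d) x₀ := ⟨(gi ^ d) x, (hgi_pow d x).symm⟩
  have hax₀ : aeval g a x₀ = 0 := by
    apply hinj d
    rw [← aeval_X_pow_apply, aeval_comm_apply, aeval_X_pow_apply, ← hx₀, hx]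
  rw [polar_comm, hyy, hx₀, polar_aeval_pow Q g hiso b d hd.ge, hd]
  have : b.reflect b.natDegree = b.reverse := rfl
  rw [this, hrb, aeval_mul_apply, hax₀, map_zero, polar_zero_right]

variable [FiniteDimensional F V] (hfix : ∀ v, g v = v → v = 0)

include hfix

theorem q_ker_eq_zero (a b : F[X]) (hab : IsCoprime a b) (u' : F)
    (hrb : b.reverse = C u' * a) (x : V) (hx : aeval g a x = 0) : Q x = 0 := by
  have hinj : Function.Injective (g - 1 : Module.End F V) := by
    rw [← LinearMap.ker_eq_bot, LinearMap.ker_eq_bot']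
    intro v hv
    rw [LinearMap.sub_apply, Module.End.one_apply, sub_eq_zero] at hv
    exact hfix v hv
  have hsurj := LinearMap.injective_iff_surjective.1 hinj
  obtain ⟨w, hw⟩ := hsurj x
  rw [LinearMap.sub_apply, Module.End.one_apply] at hw
  have haw : aeval g a w = 0 := by
    apply hfix
    have h1 : aeval g a (g w - w) = 0 := by rw [hw, hx]
    rw [map_sub, sub_eq_zero, ← aeval_X_apply g (w), aeval_comm_apply, aeval_X_apply] at h1
    exact h1
  have hq : Q (g w - w) = -polar Q (g w - w) w := by
    have h1 : Q (g w - w) = Q (g w) + Q (-w) + polar Q (g w) (-w) := by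
      rw [sub_eq_add_neg, q_add]
    rw [h1, hiso, QuadraticMap.map_neg, polar_neg_right, polar_sub_left, polar_self, two_smul]
    ring
  rw [← hw, hq, polar_ker_eq_zero Q g hiso gi gi_g g_gi a b hab u' hrb _ _ (by rw [hw, hx]) haw,
    neg_zero]

/-- **A space with a fixed-point-free isometry whose minimal polynomial splits into two dual
coprime factors has sign `+`.** -/
theorem hasSign_of_dual_split [Fintype F] (hQ : Nd Q) (k : ℕ) (hk : finrank F V = 2 * k)
    (a b : F[X]) (hab : IsCoprime a b) (h0 : aeval g (a * b) = 0) (u u' : F)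
    (hra : a.reverse = C u * b) (hrb : b.reverse = C u' * a) : HasSign Q k 1 := by
  have h1 := Polynomial.sup_ker_aeval_eq_ker_aeval_mul_of_coprime g hab
  have h2 := Polynomial.disjoint_ker_aeval_of_isCoprime g hab
  rw [h0, LinearMap.ker_zero] at h1
  have h3 := Submodule.finrank_sup_add_finrank_inf_eq (LinearMap.ker (aeval g a))
    (LinearMap.ker (aeval g b))
  rw [h1, h2.eq_bot, finrank_top, finrank_bot, hk] at h3
  rcases Nat.lt_or_ge (finrank F (LinearMap.ker (aeval g a))) k with hlt | hge
  · apply hasSign_of_ts k V Q hQ hk (LinearMap.ker (aeval g b)) _ (by omega)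
    intro x hx
    exact q_ker_eq_zero Q g hiso gi gi_g g_gi hfix b a hab.symm u hra x (LinearMap.mem_ker.1 hx)
  · apply hasSign_of_ts k V Q hQ hk (LinearMap.ker (aeval g a)) _ hge
    intro x hx
    exact q_ker_eq_zero Q g hiso gi gi_g g_gi hfix a b hab u' hrb x (LinearMap.mem_ker.1 hx)

end dual

end Cfsg.Agent.Lib.Helper5.QuadSign
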