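import Mathlib
import Cfsg.Agent.Lib.Helper5.QuadSign.Arith
import Cfsg.Agent.Lib.Helper5.QuadSign.DualTS
import Cfsg.Agent.Lib.Helper5.QuadSign.StdMinus
import Cfsg.Agent.Lib.Helper5.QuadTwo.QMat2
import Cfsg.Agent.Lib.Helper5.OrthPrime.OMain

set_option autoImplicit false

/-!
# The constraints on the characteristic polynomial coming from the sign
-/

namespace Cfsg.Agent.Lib.Helper5.QuadSign

open QuadraticMap Module Matrix Polynomial Cfsg
open Cfsg.Agent.Lib.Helper5.QuadTwo Cfsg.Agent.Lib.Helper5.SemiConj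
open Cfsg.Agent.Lib.Helper5.SemiCount Cfsg.Agent.Lib.Helper5.OrthPrime
open Cfsg.Agent.Lib.Helper4.PrimeOrd Cfsg.Agent.Lib.Helper4.SemiMod

universe u

section cons
variable {F : Type u} [Field F] {ι : Type} [Fintype ι] [DecidableEq ι]
variable {r i t : ℕ} {f : Fin t → F[X]}

theorem fam_isCoprime (H : FamHyp r i t f) {j k : Fin t} (hjk : j ≠ k) :
    IsCoprime (f j) (f k) := by
  rw [(H.irr j).coprime_iff_not_dvd]
  intro hd
  apply hjk
  apply H.inj
  exact eq_of_monic_of_associated (H.monic j) (H.monic k)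
    ((H.irr j).associated_of_dvd (H.irr k) hd)

/-- no fixed vectors when the characteristic polynomial does not vanish at `1` -/
theorem fix_free_of_eval (M : Matrix ι ι F) (h1 : eval 1 M.charpoly ≠ 0) :
    ∀ v, Matrix.toLin' M v = v → v = 0 := by
  intro v hv
  by_contra hv0
  apply h1
  have h2 : Module.End.HasEigenvalue (Matrix.toLin' M) 1 :=
    Module.End.hasEigenvalue_of_hasEigenvector
      ⟨by rw [Module.End.mem_eigenspace_iff, one_smul]; exact hv, hv0⟩
  rw [Module.End.hasEigenvalue_iff_isRoot_charpoly, Matrix.charpoly_toLin'] at h2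
  exact h2

theorem Pc_full (n : ℕ) (c : Fin t → ℕ) (hfull : i * ∑ j, c j = n) :
    Pc n i t f c = ∏ j, f j ^ c j := by
  unfold Pc
  rw [hfull, Nat.sub_self, pow_zero, one_mul]

variable [Fintype F]

theorem eval_one_Pc_full (H : FamHyp r i t f) (n : ℕ) (c : Fin t → ℕ)
    (hfull : i * ∑ j, c j = n) : eval 1 (Pc n i t f c) ≠ 0 := by
  rw [Pc_full n c hfull, eval_prod]
  apply Finset.prod_ne_zero_iff.mpr
  intro j _
  rw [eval_pow]
  exact pow_ne_zero _ (eval_one_fam_ne H j)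

/-- **The sign constraint**, self-dual factors: an element using the whole space exists only when
the parity of the number of blocks matches the sign. -/
theorem sign_constraint [Fact r.Prime] (hr2 : r ≠ 2) (r0 : (r : F) ≠ 0) (H : FamHyp r i t f)
    (hi : orderOf ((Fintype.card F : ℕ) : ZMod r) = i) (hev : Even i)
    (Q₀ : QuadraticForm F (ι → F)) (hQ₀ : Nd Q₀) (m : ℕ) (ε : ℤ) (hε1 : ε = 1 ∨ ε = -1)
    (hε : HasSign Q₀ m ε) (g : ↥(Cfsg.isometryGroup F ⇑Q₀)) (hg : g ^ r = 1) (c : Fin t → ℕ)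
    (hcp : ((g : GL ι F) : Matrix ι ι F).charpoly = Pc (2 * m) i t f c)
    (hfull : i * ∑ j, c j = 2 * m) : (-1 : ℤ) ^ (∑ j, c j) = ε := by
  obtain ⟨D, hD⟩ : ∃ D : TData F (ι → F), D = tData Q₀ hQ₀ g r hg r0 := ⟨_, rfl⟩
  have hDg : D.g = Matrix.toLin' ((g : GL ι F) : Matrix ι ι F) := by rw [hD]; rfl
  have hDQ : D.Q = Q₀ := by rw [hD]; rfl
  have hDr : D.r = r := by rw [hD]; rfl
  have hfix : ∀ v, D.g v = v → v = 0 := by
    rw [hDg]
    apply fix_free_of_eval
    rw [hcp]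
    exact eval_one_Pc_full H _ c hfull
  have hiso := D.isom
  have hpow := D.hr
  rw [hDQ] at hiso
  rw [hDr] at hpow
  exact (sign_of_fpf Q₀ D.g hiso r hr2 hpow hfix hi hev H.ipos hfull.symm ε hε1 hε).symm

/-- **The constraint for dual pairs**: a fixed-point-free element all of whose factors come in
dual pairs lives on a space of sign `+`. -/
theorem hasSign_of_dual_pairs (r0 : (r : F) ≠ 0) (H : FamHyp r i t f)
    (π : Fin t → Fin t) (hπi : Function.Involutive π)
    (hπ : ∀ j, star (RingHom.id F) (f j) = f (π j)) (hfp : ∀ j, π j ≠ j)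
    (Q₀ : QuadraticForm F (ι → F)) (hQ₀ : Nd Q₀) (m : ℕ) (hcard : Fintype.card ι = 2 * m)
    (g : ↥(Cfsg.isometryGroup F ⇑Q₀)) (hg : g ^ r = 1) (c : Fin t → ℕ)
    (hcπ : ∀ j, c (π j) = c j)
    (hcp : ((g : GL ι F) : Matrix ι ι F).charpoly = Pc (2 * m) i t f c)
    (hfull : i * ∑ j, c j = 2 * m) : HasSign Q₀ m 1 := by
  classical
  obtain ⟨D, hD⟩ : ∃ D : TData F (ι → F), D = tData Q₀ hQ₀ g r hg r0 := ⟨_, rfl⟩
  have hDg : D.g = Matrix.toLin' ((g : GL ι F) : Matrix ι ι F) := by rw [hD]; rfl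
  have hDQ : D.Q = Q₀ := by rw [hD]; rfl
  have hfix : ∀ v, D.g v = v → v = 0 := by
    rw [hDg]
    apply fix_free_of_eval
    rw [hcp]
    exact eval_one_Pc_full H _ c hfull
  have hiso := D.isom
  rw [hDQ] at hiso
  obtain ⟨A, hA⟩ : ∃ A : F[X], A = ∏ a : {j : Fin t // j < π j}, f a.1 ^ c a.1 := ⟨_, rfl⟩
  obtain ⟨B, hB⟩ : ∃ B : F[X], B = ∏ b : {j : Fin t // ¬ j < π j}, f b.1 ^ c b.1 := ⟨_, rfl⟩
  have hAB : A * B = ∏ j, f j ^ c j := by
    rw [hA, hB]
    exact Fintype.prod_subtype_mul_prod_subtype (fun j => j < π j) (fun j => f j ^ c j)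
  have hsA : star (RingHom.id F) A = B := by
    rw [hA, hB, Cfsg.Agent.Lib.Helper5.SemiCount.star_prod,
      ← Equiv.prod_comp (complEquiv π hπi hfp) (fun b : {j : Fin t // ¬ j < π j} => f b.1 ^ c b.1)]
    apply Finset.prod_congr rfl
    intro a _
    rw [Cfsg.Agent.Lib.Helper5.SemiCount.star_pow, hπ]
    show f (π a.1) ^ c a.1 = f (π a.1) ^ c (π a.1)
    rw [hcπ]
  have hsB : star (RingHom.id F) B = A := by
    rw [hA, hB, Cfsg.Agent.Lib.Helper5.SemiCount.star_prod,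
      ← Equiv.prod_comp (complEquiv π hπi hfp).symm
        (fun a : {j : Fin t // j < π j} => f a.1 ^ c a.1)]
    apply Finset.prod_congr rfl
    intro b _
    rw [Cfsg.Agent.Lib.Helper5.SemiCount.star_pow, hπ]
    show f (π b.1) ^ c b.1 = f (π b.1) ^ c (π b.1)
    rw [hcπ]
  have hrev : ∀ P P' : F[X], P.coeff 0 ≠ 0 → star (RingHom.id F) P = P' →
      P.reverse = C (P.coeff 0) * P' := by
    intro P P' h0 hs
    rw [← hs]
    unfold Cfsg.Agent.Lib.Helper5.SemiCount.star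
    rw [Polynomial.map_id, RingHom.id_apply, ← mul_assoc, ← C_mul, mul_inv_cancel₀ h0, C_1,
      one_mul]
  have hcoef : ∀ (s : Finset (Fin t)), (∏ j ∈ s, f j ^ c j).coeff 0 ≠ 0 := by
    intro s
    rw [coeff_zero_eq_eval_zero, eval_prod]
    apply Finset.prod_ne_zero_iff.mpr
    intro j _
    rw [eval_pow, ← coeff_zero_eq_eval_zero]
    exact pow_ne_zero _ (fam_coeff_zero_ne H j)
  have hAB0 : (A * B).coeff 0 ≠ 0 := by
    rw [hAB]
    exact hcoef Finset.univ
  rw [mul_coeff_zero] at hAB0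
  have hA0 : A.coeff 0 ≠ 0 := left_ne_zero_of_mul hAB0
  have hB0 : B.coeff 0 ≠ 0 := right_ne_zero_of_mul hAB0
  have hcop : IsCoprime A B := by
    rw [hA, hB]
    apply IsCoprime.prod_left
    intro a _
    apply IsCoprime.prod_right
    intro b _
    apply IsCoprime.pow
    apply fam_isCoprime H
    intro hab
    exact b.2 (hab ▸ a.2)
  have h0 : aeval D.g (A * B) = 0 := by
    rw [hAB, ← Pc_full (2 * m) c hfull, ← hcp, hDg, ← Matrix.charpoly_toLin']
    exact LinearMap.aeval_self_charpoly _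
  exact hasSign_of_dual_split Q₀ D.g hiso D.gi D.gi_g D.g_gi hfix hQ₀ m
    (by rw [Module.finrank_fintype_fun_eq_card, hcard]) A B hcop h0 _ _ (hrev A B hA0 hsA)
    (hrev B A hB0 hsB)

end cons

end Cfsg.Agent.Lib.Helper5.QuadSign
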