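import Mathlib
import Cfsg.Agent.Lib.Helper5.OrthPrime.OMain

set_option autoImplicit false

/-!
# Counting classes of elements of prime order with a constraint on the exponent vectors
-/

namespace Cfsg.Agent.Lib.Helper5.QuadSign

open Module Matrix Polynomial Cfsg
open Cfsg.Agent.Lib.Helper5.SemiConj Cfsg.Agent.Lib.Helper5.SemiCount
open Cfsg.Agent.Lib.Helper4.PrimeOrd Cfsg.Agent.Lib.Helper4.SemiMod

section dualcount
variable {F : Type*} [Field F] [Fintype F] {n r i t : ℕ} {f : Fin t → F[X]}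

/-- **The class count** with a constraint `P` on the exponent vectors. -/
theorem card_classes_dual_pred {G : Type*} [Group G] (ρ : G →* GL (Fin n) F)
    (H : FamHyp r i t f) (hr : r.Prime) (π : Fin t → Fin t) (P : (Fin t → ℕ) → Prop)
    (hcp : ∀ g : G, g ^ r = 1 → ∃ c : Fin t → ℕ, i * ∑ j, c j ≤ n ∧ (∀ j, c (π j) = c j) ∧ P c ∧
      ((ρ g : GL (Fin n) F) : Matrix (Fin n) (Fin n) F).charpoly = Pc n i t f c)
    (hconj : ∀ g h : G, g ^ r = 1 → h ^ r = 1 →
      ((ρ g : GL (Fin n) F) : Matrix (Fin n) (Fin n) F).charpoly =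
        ((ρ h : GL (Fin n) F) : Matrix (Fin n) (Fin n) F).charpoly → IsConj g h)
    (hreal : ∀ c : Fin t → ℕ, i * ∑ j, c j ≤ n → (∀ j, c (π j) = c j) → P c →
      ∃ g : G, g ^ r = 1 ∧
        ((ρ g : GL (Fin n) F) : Matrix (Fin n) (Fin n) F).charpoly = Pc n i t f c) :
    Nat.card {C : ConjClasses G // ∃ g : G, ConjClasses.mk g = C ∧ orderOf g = r} =
      Nat.card {c : Fin t → ℕ // ∑ j, c j ≤ n / i ∧ c ≠ 0 ∧ (∀ j, c (π j) = c j) ∧ P c} := by
  classical
  have : Fact r.Prime := ⟨hr⟩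
  have hex : ∀ c : Fin t → ℕ, ∃ g : G, i * ∑ j, c j ≤ n → (∀ j, c (π j) = c j) → P c →
      (((ρ g : GL (Fin n) F) : Matrix (Fin n) (Fin n) F).charpoly = Pc n i t f c ∧
        g ^ r = 1) := by
    intro c
    by_cases hc : (i * ∑ j, c j ≤ n ∧ ∀ j, c (π j) = c j) ∧ P c
    · obtain ⟨g, h1, h2⟩ := hreal c hc.1.1 hc.1.2 hc.2
      exact ⟨g, fun _ _ _ => ⟨h2, h1⟩⟩
    · exact ⟨1, fun h h' h'' => absurd ⟨⟨h, h'⟩, h''⟩ hc⟩
  choose gsel hsel using hex
  have hone : (1 : G) ^ r = 1 := one_pow r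
  have hch1 : ((ρ (1 : G) : GL (Fin n) F) : Matrix (Fin n) (Fin n) F).charpoly = Pc n i t f 0 := by
    rw [map_one, Pc_zero, Units.val_one, Matrix.charpoly_one, Fintype.card_fin, map_one]
  have hne : ∀ c : Fin t → ℕ, i * ∑ j, c j ≤ n → (∀ j, c (π j) = c j) → P c → c ≠ 0 →
      gsel c ≠ 1 := by
    intro c hc hc' hP hc0 h1
    obtain ⟨h2, -⟩ := hsel c hc hc' hP
    rw [h1, hch1] at h2
    exact hc0 (Pc_injective H _ _ h2).symm
  have hile : ∀ c : Fin t → ℕ, ∑ j, c j ≤ n / i ↔ i * ∑ j, c j ≤ n := by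
    intro c
    rw [Nat.le_div_iff_mul_le H.ipos, mul_comm]
  have hcpconj : ∀ g h : G, IsConj g h →
      ((ρ g : GL (Fin n) F) : Matrix (Fin n) (Fin n) F).charpoly =
        ((ρ h : GL (Fin n) F) : Matrix (Fin n) (Fin n) F).charpoly := by
    intro g h hgh
    obtain ⟨u, hu⟩ := isConj_iff.1 hgh
    apply charpoly_eq_of_gl_conj (ρ u)
    rw [← map_inv, ← map_mul, ← map_mul, hu]
  let Φ : {c : Fin t → ℕ // ∑ j, c j ≤ n / i ∧ c ≠ 0 ∧ (∀ j, c (π j) = c j) ∧ P c} →
      {C : ConjClasses G // ∃ g : G, ConjClasses.mk g = C ∧ orderOf g = r} :=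
    fun c => ⟨ConjClasses.mk (gsel c.1), gsel c.1, rfl,
      orderOf_eq_prime (hsel c.1 ((hile c.1).1 c.2.1) c.2.2.2.1 c.2.2.2.2).2
        (hne c.1 ((hile c.1).1 c.2.1) c.2.2.2.1 c.2.2.2.2 c.2.2.1)⟩
  have hΦ : Function.Bijective Φ := by
    constructor
    · intro c c' h
      have h' := congrArg Subtype.val h
      simp only [Φ, ConjClasses.mk_eq_mk_iff_isConj] at h'
      have hcp' := hcpconj _ _ h'
      rw [(hsel c.1 ((hile c.1).1 c.2.1) c.2.2.2.1 c.2.2.2.2).1,
        (hsel c'.1 ((hile c'.1).1 c'.2.1) c'.2.2.2.1 c'.2.2.2.2).1] at hcp'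
      exact Subtype.ext (Pc_injective H _ _ hcp')
    · rintro ⟨C, g, rfl, hg⟩
      have hgr : g ^ r = 1 := by rw [← hg]; exact pow_orderOf_eq_one g
      obtain ⟨c, hc, hcπ, hP, hcpg⟩ := hcp g hgr
      have hc0 : c ≠ 0 := by
        rintro rfl
        have : IsConj g 1 := hconj g 1 hgr hone (by rw [hcpg, hch1])
        rw [isConj_one_left] at this
        rw [this, orderOf_one] at hg
        exact hr.one_lt.ne hg
      refine ⟨⟨c, (hile c).2 hc, hc0, hcπ, hP⟩, ?_⟩
      apply Subtype.ext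
      simp only [Φ]
      rw [ConjClasses.mk_eq_mk_iff_isConj]
      exact hconj _ _ (hsel c hc hcπ hP).2 hgr (by rw [(hsel c hc hcπ hP).1, hcpg])
  exact (Nat.card_congr (Equiv.ofBijective Φ hΦ)).symm

end dualcount

section counting
variable {t : ℕ}

theorem choose_pascal_sub (M t : ℕ) (hM : 1 ≤ M) (ht : 1 ≤ t) :
    (M + t).choose t - 1 - (M + t - 1).choose (t - 1) = (M - 1 + t).choose t - 1 := by
  obtain ⟨M', rfl⟩ : ∃ M', M = M' + 1 := ⟨M - 1, by omega⟩
  obtain ⟨t', rfl⟩ : ∃ t', t = t' + 1 := ⟨t - 1, by omega⟩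
  have h1 : M' + 1 + (t' + 1) = (M' + 1 + t') + 1 := by ring
  have h2 : (M' + 1 + (t' + 1)).choose (t' + 1) =
      (M' + 1 + t').choose t' + (M' + 1 + t').choose (t' + 1) := by
    rw [h1, Nat.choose_succ_succ]
  have h3 : M' + 1 + (t' + 1) - 1 = M' + 1 + t' := by omega
  have h4 : M' + 1 - 1 + (t' + 1) = M' + 1 + t' := by omega
  rw [h2, h3, h4, Nat.add_sub_cancel]
  omega

/-- the count with the sign constraint, trivial duality -/
theorem card_pred_id (t M i n : ℕ) (σ : ℤ) (ht : 1 ≤ t) (hi : 0 < i) (hn : 0 < n)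
    (hM : M = n / i) :
    Nat.card {c : Fin t → ℕ // ∑ j, c j ≤ M ∧ c ≠ 0 ∧ (∀ j, c (id j) = c j) ∧
      (i * ∑ j, c j = n → (-1 : ℤ) ^ (∑ j, c j) = σ)} =
      (M + t).choose t - 1 - (if i ∣ n ∧ (-1 : ℤ) ^ M ≠ σ then (M + t - 1).choose (t - 1) else 0) := by
  by_cases hd : i ∣ n ∧ (-1 : ℤ) ^ M ≠ σ
  · rw [if_pos hd]
    obtain ⟨⟨k, hk⟩, hs⟩ := hd
    have hMk : M = k := by rw [hM, hk, Nat.mul_div_cancel_left _ hi]
    have hM1 : 1 ≤ M := by
      rw [hMk]
      rcases Nat.eq_zero_or_pos k with h | h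
      · rw [h, mul_zero] at hk; omega
      · exact h
    rw [choose_pascal_sub M t hM1 ht, ← card_dual_id t (M - 1)]
    apply Nat.card_congr
    apply Equiv.subtypeEquivRight
    intro c
    constructor
    · rintro ⟨h1, h2, h3, h4⟩
      refine ⟨?_, h2, h3⟩
      have : ∑ j, c j ≠ M := by
        intro h
        apply hs
        rw [← h]
        apply h4
        rw [h, hMk, hk]
      omega
    · rintro ⟨h1, h2, h3⟩
      refine ⟨by omega, h2, h3, ?_⟩
      intro h
      exfalso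
      rw [hk] at h
      have := Nat.eq_of_mul_eq_mul_left hi h
      omega
  · rw [if_neg hd, Nat.sub_zero, ← card_dual_id t M]
    apply Nat.card_congr
    apply Equiv.subtypeEquivRight
    intro c
    constructor
    · rintro ⟨h1, h2, h3, -⟩
      exact ⟨h1, h2, h3⟩
    · rintro ⟨h1, h2, h3⟩
      refine ⟨h1, h2, h3, ?_⟩
      intro h
      by_contra hne
      apply hd
      have hdvd : i ∣ n := ⟨_, h.symm⟩
      refine ⟨hdvd, ?_⟩
      have : ∑ j, c j = M := by
        rw [hM, ← h, Nat.mul_div_cancel_left _ hi]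
      rw [← this]
      exact hne

/-- the count with the constraint `i ∑ c ≠ 2m`, fixed-point-free duality, `i` odd -/
theorem card_pred_fpf (π : Fin t → Fin t) (hπi : Function.Involutive π) (hfp : ∀ j, π j ≠ j)
    (i m : ℕ) (hi : Odd i) (hm : 0 < m) (ht : 2 ≤ t) :
    Nat.card {c : Fin t → ℕ // ∑ j, c j ≤ 2 * m / i ∧ c ≠ 0 ∧ (∀ j, c (π j) = c j) ∧
      i * ∑ j, c j ≠ 2 * m} =
      (m / i + t / 2).choose (t / 2) - 1 -
        (if i ∣ m then (m / i + t / 2 - 1).choose (t / 2 - 1) else 0) := by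
  have hipos : 0 < i := hi.pos
  have hdiv : 2 * m / i / 2 = m / i := by
    rw [Nat.div_div_eq_div_mul, mul_comm i 2, ← Nat.div_div_eq_div_mul,
      Nat.mul_div_cancel_left _ (by norm_num : 0 < 2)]
  by_cases hd : i ∣ m
  · rw [if_pos hd]
    obtain ⟨k, hk⟩ := hd
    have hk1 : 1 ≤ k := by
      rcases Nat.eq_zero_or_pos k with h | h
      · rw [h, mul_zero] at hk; omega
      · exact h
    have hmi : m / i = k := by rw [hk, Nat.mul_div_cancel_left _ hipos]
    have h2mi : 2 * m / i = 2 * k := by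
      rw [hk, ← mul_assoc, mul_comm 2 i, mul_assoc, Nat.mul_div_cancel_left _ hipos]
    have e : k - 1 = (2 * k - 1) / 2 := by omega
    rw [hmi, choose_pascal_sub k (t / 2) hk1 (by omega), e,
      ← card_dual_fpf π hπi hfp (2 * k - 1), h2mi]
    · apply Nat.card_congr
      apply Equiv.subtypeEquivRight
      intro c
      constructor
      · rintro ⟨h1, h2, h3, h4⟩
        refine ⟨?_, h2, h3⟩
        have : ∑ j, c j ≠ 2 * k := by
          intro h
          apply h4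
          rw [h, hk]
          ring
        omega
      · rintro ⟨h1, h2, h3⟩
        refine ⟨by omega, h2, h3, ?_⟩
        intro h
        rw [hk] at h
        have h' : i * ∑ j, c j = i * (2 * k) := by rw [h]; ring
        have := Nat.eq_of_mul_eq_mul_left hipos h'
        omega
  · rw [if_neg hd, Nat.sub_zero, ← hdiv, ← card_dual_fpf π hπi hfp (2 * m / i)]
    apply Nat.card_congr
    apply Equiv.subtypeEquivRight
    intro c
    constructor
    · rintro ⟨h1, h2, h3, -⟩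
      exact ⟨h1, h2, h3⟩
    · rintro ⟨h1, h2, h3⟩
      refine ⟨h1, h2, h3, ?_⟩
      intro h
      apply hd
      have h4 : i ∣ 2 * m := ⟨_, h.symm⟩
      exact (Nat.Coprime.dvd_mul_left (Nat.Coprime.symm (Nat.coprime_two_left.mpr hi))).1 h4

end counting

end Cfsg.Agent.Lib.Helper5.QuadSign
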