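import Mathlib
import Cfsg.Agent.Lib.Helper5.QuadSign.Sign
import Cfsg.Agent.Lib.Helper5.QuadTwo.Cancel2

set_option autoImplicit false

/-!
# Orthogonal products in characteristic two: the sign is multiplicative
-/

namespace Cfsg.Agent.Lib.Helper5.QuadSign

open QuadraticMap Module Cfsg
open Cfsg.Agent.Lib.Helper5.QuadTwo

universe u v w

section prod
variable {F : Type u} [Field F] {V : Type v} {V' : Type w} [AddCommGroup V] [Module F V]
  [AddCommGroup V'] [Module F V']

theorem nd_prod (Q : QuadraticForm F V) (Q' : QuadraticForm F V') (hQ : Nd Q) (hQ' : Nd Q') :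
    Nd (Q.prod Q') := by
  intro v hv
  have h1 : v.1 = 0 := by
    apply hQ
    intro w
    have := hv (w, 0)
    rw [polar_prod] at this
    simpa using this
  have h2 : v.2 = 0 := by
    apply hQ'
    intro w
    have := hv (0, w)
    rw [polar_prod] at this
    simpa using this
  exact Prod.ext h1 h2

variable [Fintype F]

/-- the number of singular vectors of an orthogonal product, characteristic two -/
theorem zeros_prod_two (h2 : (2 : F) = 0) [Fintype V] [Fintype V'] (Q : QuadraticForm F V)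
    (Q' : QuadraticForm F V') :
    ∃ n : ℕ, Fintype.card V = zeros Q + (Fintype.card F - 1) * n ∧
      zeros (Q.prod Q') = zeros Q * zeros Q' + n * (Fintype.card V' - zeros Q') := by
  classical
  refine ⟨cnt Q 1, ?_, ?_⟩
  · rw [zeros_eq_cnt]
    exact card_eq_of_balanced Q _ (fun c hc => balanced_two h2 Q c hc)
  · rw [zeros_eq_cnt, zeros_eq_cnt, zeros_eq_cnt]
    have h := cnt_add_of_balanced (fun x : V => Q x) (fun y : V' => Q' y) (cnt Q 0) (cnt Q 1) rfl
      (fun c hc => balanced_two h2 Q c hc)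
    rw [← h]
    rfl

/-- **The sign is multiplicative** (characteristic two). -/
theorem hasSign_prod_two (h2 : (2 : F) = 0) [FiniteDimensional F V] [FiniteDimensional F V']
    (Q : QuadraticForm F V) (Q' : QuadraticForm F V') (a b : ℕ) (ha : finrank F V = 2 * a)
    (hb : finrank F V' = 2 * b) (s s' : ℤ) (hs : HasSign Q a s) (hs' : HasSign Q' b s') :
    HasSign (Q.prod Q') (a + b) (s * s') := by
  classical
  have : Finite V := Module.finite_of_finite F
  have : Finite V' := Module.finite_of_finite F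
  have : Fintype V := Fintype.ofFinite V
  have : Fintype V' := Fintype.ofFinite V'
  obtain ⟨n, hn1, hn2⟩ := zeros_prod_two h2 Q Q'
  have hcV : Fintype.card V = Fintype.card F ^ (2 * a) := by
    rw [← ha]
    exact Module.card_eq_pow_finrank
  have hcV' : Fintype.card V' = Fintype.card F ^ (2 * b) := by
    rw [← hb]
    exact Module.card_eq_pow_finrank
  have hle : zeros Q' ≤ Fintype.card V' := by
    rw [zeros_eq_cnt]
    exact cnt_le _ _
  have hq1 : 1 ≤ Fintype.card F := Fintype.card_pos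
  unfold HasSign at hs hs' ⊢
  have e1 : ((Fintype.card F : ℤ)) ^ (2 * a) =
      (zeros Q : ℤ) + ((Fintype.card F : ℤ) - 1) * n := by
    have h := hn1
    rw [hcV] at h
    zify [hq1] at h
    exact h
  have e2 : (zeros (Q.prod Q') : ℤ) =
      (zeros Q : ℤ) * zeros Q' + n * ((Fintype.card F : ℤ) ^ (2 * b) - zeros Q') := by
    have h := hn2
    rw [hcV'] at h hle
    zify [hle] at h
    exact h
  have hpos := card_sub_one_pos (F := F)
  have hq0 : (0 : ℤ) < (Fintype.card F : ℤ) := by exact_mod_cast Fintype.card_pos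
  obtain ⟨q, hq⟩ : ∃ q : ℤ, q = (Fintype.card F : ℤ) := ⟨_, rfl⟩
  obtain ⟨A, hA⟩ : ∃ A : ℤ, A = q ^ a := ⟨_, rfl⟩
  obtain ⟨B, hB⟩ : ∃ B : ℤ, B = q ^ b := ⟨_, rfl⟩
  rw [← hq] at hs hs' e1 e2 hpos hq0 ⊢
  have hA2 : q ^ (2 * a) = A * A := by rw [hA]; ring
  have hB2 : q ^ (2 * b) = B * B := by rw [hB]; ring
  have hAB2 : q ^ (2 * (a + b)) = A * A * (B * B) := by rw [hA, hB]; ring
  have hAB : q ^ (a + b) = A * B := by rw [hA, hB]; ring
  rw [hA2] at e1
  rw [hA2, ← hA] at hs
  rw [hB2] at e2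
  rw [hB2, ← hB] at hs'
  rw [hAB2, hAB, e2]
  have hne : q * (q - 1) ≠ 0 := mul_ne_zero hq0.ne' hpos.ne'
  apply mul_left_cancel₀ hne
  have hN' : (q - 1) * (n : ℤ) = A * A - (zeros (⇑Q) : ℤ) := by linarith
  linear_combination (q * (q * B * B - q * (zeros (⇑Q') : ℤ))) * hN' +
    (q * (q * (zeros (⇑Q') : ℤ) - B * B)) * hs + (q * (s * (q - 1) * A)) * hs'

end prod

section aniso
variable {F : Type u} [Field F] [Finite F]

/-- an anisotropic binary form `x² + x y + c₀ y²` in characteristic two -/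
theorem exists_aniso_two (h2 : (2 : F) = 0) :
    ∃ c₀ : F, ∀ z₁ z₂ : F, z₁ ^ 2 + 1 * z₁ * z₂ + c₀ * z₂ ^ 2 = 0 → z₁ = 0 ∧ z₂ = 0 := by
  have hni : ¬ Function.Injective (fun s : F => s * s + s) := by
    intro hinj
    have h01 : (fun s : F => s * s + s) 0 = (fun s : F => s * s + s) 1 := by
      show (0 : F) * 0 + 0 = 1 * 1 + 1
      rw [mul_zero, add_zero, mul_one, one_add_one_eq_two, h2]
    exact zero_ne_one (hinj h01)
  have hns : ¬ Function.Surjective (fun s : F => s * s + s) := fun hs =>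
    hni (Finite.injective_iff_surjective.mpr hs)
  rw [Function.Surjective] at hns
  push Not at hns
  obtain ⟨c₀, hc₀⟩ := hns
  refine ⟨c₀, ?_⟩
  intro z₁ z₂ h
  by_cases hz : z₂ = 0
  · rw [hz] at h
    have : z₁ ^ 2 = 0 := by
      rw [← h]
      ring
    exact ⟨pow_eq_zero_iff (two_ne_zero) |>.1 this, hz⟩
  · exfalso
    apply hc₀ (z₁ / z₂)
    show z₁ / z₂ * (z₁ / z₂) + z₁ / z₂ = c₀
    have h3 : c₀ + c₀ = 0 := add_self_two h2 c₀
    have h4 : (z₁ / z₂ * (z₁ / z₂) + z₁ / z₂ + c₀) * z₂ ^ 2 = 0 := by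
      rw [← h]
      field_simp
    have h5 := (mul_eq_zero.1 h4).resolve_right (pow_ne_zero 2 hz)
    calc z₁ / z₂ * (z₁ / z₂) + z₁ / z₂ = z₁ / z₂ * (z₁ / z₂) + z₁ / z₂ + c₀ + c₀ := by
          rw [add_assoc _ c₀ c₀, h3, add_zero]
      _ = c₀ := by rw [h5, zero_add]

end aniso

end Cfsg.Agent.Lib.Helper5.QuadSign
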