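import Mathlib
import Cfsg.Agent.Lib.Helper5.QuadSign.GeoInst
import Cfsg.Agent.Lib.Helper5.QuadSign.Arith
import Cfsg.Agent.Lib.Helper5.OrthPrime.OExist
import Cfsg.Agent.Lib.Helper5.QuadTwo.QMat2

set_option autoImplicit false

/-!
# The quadratic form attached to a symplectic isometry, and transport of isometries
-/

namespace Cfsg.Agent.Lib.Helper5.QuadSign

open QuadraticMap Module Matrix Polynomial Cfsg
open Cfsg.Agent.Lib.Helper5.QuadTwo Cfsg.Agent.Lib.Helper5.SemiConj
open Cfsg.Agent.Lib.Helper5.OrthPrime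

universe u

section qw
variable {F : Type u} [Field F] {V : Type u} [AddCommGroup V] [Module F V]
  (E : IsoData (RingHom.id F) (-1 : F) V)

/-- the quadratic form `x ↦ ω(x, g x)` attached to a symplectic isometry -/
noncomputable def qW : QuadraticForm F V :=
  LinearMap.BilinMap.toQuadraticMap (LinearMap.compl₂ E.B E.g)

theorem qW_apply (x : V) : qW E x = E.B x (E.g x) := by
  unfold qW
  rw [LinearMap.BilinMap.toQuadraticMap_apply, LinearMap.compl₂_apply]

theorem polar_qW (x y : V) : polar (qW E) x y = symForm E x y := by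
  unfold qW
  rw [LinearMap.BilinMap.polar_toQuadraticMap, LinearMap.compl₂_apply, LinearMap.compl₂_apply,
    symForm_apply, E_skew E y (E.g x), E_g_left]
  ring

theorem qW_isom (x : V) : qW E (E.g x) = qW E x := by
  rw [qW_apply, qW_apply, E.isom]

theorem pow_odd_fix (g : Module.End F V) (r : ℕ) (rodd : Odd r) (hr : g ^ r = 1) (v : V)
    (h : g (g v) = v) : g v = v := by
  obtain ⟨k, hk⟩ := rodd
  have h1 : ∀ n : ℕ, (g ^ (2 * n)) v = v := by
    intro n
    induction n with
    | zero => simp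
    | succ n ih =>
      rw [show 2 * (n + 1) = 2 * n + 2 by ring, pow_add, Module.End.mul_apply, pow_two,
        Module.End.mul_apply, h, ih]
  have h2 : (g ^ r) v = g v := by
    rw [hk, pow_succ, Module.End.mul_apply]
    have h3 : (g ^ (2 * k)) (g v) = g ((g ^ (2 * k)) v) := by
      rw [← Module.End.mul_apply, ← Module.End.mul_apply, ← pow_succ, ← pow_succ']
    rw [h3, h1]
  rw [hr, Module.End.one_apply] at h2
  exact h2.symm

theorem nd_qW (r : ℕ) (rodd : Odd r) (hr : E.g ^ r = 1) (hfix : ∀ v, E.g v = v → v = 0) :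
    Nd (qW E) := by
  intro v hv
  have h1 : E.g v - E.gi v = 0 := by
    apply E.nondeg
    intro w
    have := hv w
    rw [polar_qW, symForm_apply, ← map_sub] at this
    exact this
  have h2 : E.g v = E.gi v := sub_eq_zero.1 h1
  have h3 : E.g (E.g v) = v := by rw [h2, E.g_gi]
  exact hfix v (pow_odd_fix E.g r rodd hr v h3)

end qw

section transport
variable {F : Type u} [Field F] {ι : Type} [Fintype ι] [DecidableEq ι]

/-- transport of an isometry of finite order to the isometry group of an isometric standard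
space -/
theorem exists_of_transport {V' : Type u} [AddCommGroup V'] [Module F V']
    [FiniteDimensional F V'] (Q : QuadraticForm F (ι → F)) (Q' : QuadraticForm F V')
    (φ : V' ≃ₗ[F] (ι → F)) (hφ : ∀ x, Q (φ x) = Q' x) (g' gi' : Module.End F V')
    (hg : ∀ x, Q' (g' x) = Q' x) (gi_g : ∀ x, gi' (g' x) = x) (g_gi : ∀ x, g' (gi' x) = x)
    (r : ℕ) (hr : g' ^ r = 1) :
    ∃ P : ↥(Cfsg.isometryGroup F ⇑Q), P ^ r = 1 ∧
      ((P : GL ι F) : Matrix ι ι F).charpoly = LinearMap.charpoly g' := by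
  obtain ⟨ψ, hψ⟩ : ∃ ψ : (ι → F) ≃ₗ[F] (ι → F), ∀ v, ψ v = (φ.conj g') v :=
    ⟨LinearEquiv.ofLinearMap (φ.conj g') (φ.conj gi')
      (LinearMap.ext fun x => by
        rw [LinearMap.comp_apply, LinearEquiv.conj_apply, LinearEquiv.conj_apply]
        simp [g_gi])
      (LinearMap.ext fun x => by
        rw [LinearMap.comp_apply, LinearEquiv.conj_apply, LinearEquiv.conj_apply]
        simp [gi_g]), fun v => rfl⟩
  obtain ⟨P, hP⟩ := exists_of_q_isometry Q ψ (fun x => by
    rw [hψ, LinearEquiv.conj_apply]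
    simp only [LinearMap.coe_comp, LinearEquiv.coe_coe, Function.comp_apply]
    rw [hφ, hg, ← hφ, LinearEquiv.apply_symm_apply])
  have hPg : Matrix.toLin' ((P : GL ι F) : Matrix ι ι F) = φ.conj g' :=
    LinearMap.ext (fun v => by rw [Matrix.toLin'_apply, hP, hψ])
  refine ⟨P, ?_, ?_⟩
  · apply Subtype.ext
    apply Units.ext
    rw [coe_pow_iso]
    apply Matrix.toLin'.injective
    rw [← toLin'_pow_eq, hPg]
    apply LinearMap.ext
    intro x
    rw [conj_pow_apply, hr, Module.End.one_apply]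
    simp
  · rw [← Matrix.charpoly_toLin', hPg, LinearEquiv.charpoly_conj]

/-- realisation from a space of the same sign -/
theorem exists_of_sign [Fintype F] (Q₀ : QuadraticForm F (ι → F)) (hQ₀ : Nd Q₀) (k : ℕ)
    (hcard : Fintype.card ι = 2 * k) (ε : ℤ) (hε : HasSign Q₀ k ε)
    {V' : Type u} [AddCommGroup V'] [Module F V'] [FiniteDimensional F V']
    (Q' : QuadraticForm F V') (hQ' : Nd Q') (hk' : finrank F V' = 2 * k) (hε' : HasSign Q' k ε)
    (g' gi' : Module.End F V')
    (hg : ∀ x, Q' (g' x) = Q' x) (gi_g : ∀ x, gi' (g' x) = x) (g_gi : ∀ x, g' (gi' x) = x)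
    (r : ℕ) (hr : g' ^ r = 1) :
    ∃ P : ↥(Cfsg.isometryGroup F ⇑Q₀), P ^ r = 1 ∧
      ((P : GL ι F) : Matrix ι ι F).charpoly = LinearMap.charpoly g' := by
  obtain ⟨φ, hφ⟩ := (geo_all.{u, u} (F := F)).iso_of_hasSign Q' Q₀ hQ' hQ₀ k hk'
    (by rw [Module.finrank_fintype_fun_eq_card, hcard]) ε hε' hε
  exact exists_of_transport Q₀ Q' φ hφ g' gi' hg gi_g g_gi r hr

end transport

end Cfsg.Agent.Lib.Helper5.QuadSign
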