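import Mathlib
import Cfsg.Agent.Lib.Helper5.QuadSign.QW
import Cfsg.Agent.Lib.Helper5.QuadSign.ProdTwo
import Cfsg.Agent.Lib.Helper5.QuadSign.StdMinus
import Cfsg.Agent.Lib.Helper5.OrthPrime.OMain

set_option autoImplicit false

/-!
# Realisation in the even-dimensional orthogonal groups, self-dual factors
-/

namespace Cfsg.Agent.Lib.Helper5.QuadSign

open QuadraticMap Module Matrix Polynomial Cfsg
open Cfsg.Agent.Lib.Helper5.QuadTwo Cfsg.Agent.Lib.Helper5.SemiConj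
open Cfsg.Agent.Lib.Helper5.SemiCount Cfsg.Agent.Lib.Helper5.OrthPrime
open Cfsg.Agent.Lib.Helper4.PrimeOrd Cfsg.Agent.Lib.Helper4.SemiMod

universe u

section std
variable {F : Type u} [Field F] [Fintype F]

/-- standard spaces of both signs in every positive even dimension, characteristic two -/
theorem exists_std_two (h2 : (2 : F) = 0) (j : ℕ) (hj : 1 ≤ j) (s : ℤ) (hs : s = 1 ∨ s = -1) :
    ∃ (κ : Type) (_ : Fintype κ) (Q₁ : QuadraticForm F (κ → F)),
      Nd Q₁ ∧ finrank F (κ → F) = 2 * j ∧ HasSign Q₁ j s := by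
  rcases hs with rfl | rfl
  · exact ⟨Fin j ⊕ Fin j, inferInstance, qPlus j, nd_qPlus j, finrank_plus j, hasSign_qPlus j⟩
  · obtain ⟨c₀, hc₀⟩ := exists_aniso_two (F := F) h2
    obtain ⟨j', rfl⟩ : ∃ j', j = j' + 1 := ⟨j - 1, by omega⟩
    exact ⟨(Fin j' ⊕ Fin j') ⊕ Fin 2, inferInstance, qMinus j' 1 c₀, nd_qMinus j' hc₀,
      finrank_minus j', hasSign_qMinus j' hc₀⟩

end std

section realeven
variable {F : Type u} [Field F] [Fintype F] (p : ℕ) [Fact p.Prime] [CharP F p]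
variable {ι : Type} [Fintype ι] [DecidableEq ι]
variable {r i t : ℕ} {f : Fin t → F[X]}

include p in
/-- the symplectic element with prescribed characteristic polynomial -/
theorem exists_h_Pc (H : FamHyp r i t f)
    (hπ : ∀ j, star (RingHom.id F) (f j) = f j) (c : Fin t → ℕ) (m' : ℕ)
    (hm' : i * ∑ j, c j = m' + m') :
    ∃ h : ↥(Matrix.symplecticGroup (Fin m') F), (orderOf h).Coprime p ∧ h ^ r = 1 ∧
      (h : Matrix (Fin m' ⊕ Fin m') (Fin m' ⊕ Fin m') F).charpoly = ∏ j, f j ^ c j ∧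
      eval 1 (h : Matrix (Fin m' ⊕ Fin m') (Fin m' ⊕ Fin m') F).charpoly ≠ 0 := by
  obtain ⟨h, hh, hch⟩ := exists_symp_Pc p H id (fun _ => rfl) hπ c (m := m') hm'.le
    (fun _ => rfl) ⟨m', hm'⟩
  have hpow : h ^ r = 1 := by
    apply spToGL_injective m'
    rw [map_pow, map_one]
    exact gl_pow_eq_one_of_Pc p H (spToGL m' h)
      (by rw [orderOf_injective (spToGL m') (spToGL_injective m') h]; exact hh) c hch
  rw [spToGL_charpoly] at hch
  have hPc0 : Pc (m' + m') i t f c = ∏ j, f j ^ c j := by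
    unfold Pc
    rw [hm', Nat.sub_self, pow_zero, one_mul]
  refine ⟨h, hh, hpow, by rw [hch, hPc0], ?_⟩
  rw [hch, hPc0, eval_prod]
  apply Finset.prod_ne_zero_iff.mpr
  intro j _
  rw [eval_pow]
  exact pow_ne_zero _ (eval_one_fam_ne H j)

include p in
/-- the quadratic space of the symplectic element, with its sign -/
theorem exists_W_Pc [Fact r.Prime] (hr2 : r ≠ 2) (H : FamHyp r i t f)
    (hi : orderOf ((Fintype.card F : ℕ) : ZMod r) = i) (hev : Even i)
    (c : Fin t → ℕ) (m' : ℕ) (hm' : i * ∑ j, c j = m' + m')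
    (h : ↥(Matrix.symplecticGroup (Fin m') F)) (hh : (orderOf h).Coprime p) (hr : h ^ r = 1)
    (h1 : eval 1 (h : Matrix (Fin m' ⊕ Fin m') (Fin m' ⊕ Fin m') F).charpoly ≠ 0) :
    ∃ E : IsoData (RingHom.id F) (-1 : F) (Fin m' ⊕ Fin m' → F), E.g ^ r = 1 ∧
      LinearMap.charpoly E.g = (h : Matrix (Fin m' ⊕ Fin m') (Fin m' ⊕ Fin m') F).charpoly ∧
      Nd (qW E) ∧ HasSign (qW E) m' ((-1) ^ ∑ j, c j) := by
  have rodd : Odd r := (Fact.out : r.Prime).odd_of_ne_two hr2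
  obtain ⟨E, hE⟩ : ∃ E : IsoData (RingHom.id F) (-1 : F) (Fin m' ⊕ Fin m' → F),
    E.g = Matrix.toLin' (h : Matrix (Fin m' ⊕ Fin m') (Fin m' ⊕ Fin m') F) :=
    ⟨sympData p m' h hh, rfl⟩
  have hEr : E.g ^ r = 1 := by
    rw [hE, toLin'_pow_eq, ← symp_coe_pow, hr]
    exact Matrix.toLin'_one
  have hEc : LinearMap.charpoly E.g =
      (h : Matrix (Fin m' ⊕ Fin m') (Fin m' ⊕ Fin m') F).charpoly := by
    rw [hE, Matrix.charpoly_toLin']
  have hfix : ∀ v, E.g v = v → v = 0 := by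
    intro v hv
    by_contra hv0
    apply h1
    have h2 : Module.End.HasEigenvalue E.g 1 :=
      Module.End.hasEigenvalue_of_hasEigenvector
        ⟨by rw [Module.End.mem_eigenspace_iff, one_smul]; exact hv, hv0⟩
    rw [Module.End.hasEigenvalue_iff_isRoot_charpoly, hEc] at h2
    exact h2
  have hnd := nd_qW E r rodd hEr hfix
  have hfr : finrank F (Fin m' ⊕ Fin m' → F) = 2 * m' := finrank_plus m'
  refine ⟨E, hEr, hEc, hnd, ?_⟩
  have hk : 2 * m' = i * ∑ j, c j := by rw [hm']; ring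
  rcases (geo_all.{u, u} (F := F)).hasSign (qW E) hnd m' hfr with hs | hs
  · have := sign_of_fpf (qW E) E.g (qW_isom E) r hr2 hEr hfix hi hev H.ipos hk 1 (Or.inl rfl) hs
    rw [← this]
    exact hs
  · have := sign_of_fpf (qW E) E.g (qW_isom E) r hr2 hEr hfix hi hev H.ipos hk (-1) (Or.inr rfl) hs
    rw [← this]
    exact hs

include p in
/-- **Realisation, self-dual factors.** -/
theorem exists_even_Pc [Fact r.Prime] (hr2 : r ≠ 2) (H : FamHyp r i t f)
    (hπ : ∀ j, star (RingHom.id F) (f j) = f j)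
    (hi : orderOf ((Fintype.card F : ℕ) : ZMod r) = i) (hev : Even i)
    (Q₀ : QuadraticForm F (ι → F)) (hQ₀ : Nd Q₀) (m : ℕ) (hcard : Fintype.card ι = 2 * m) (ε : ℤ)
    (hε1 : ε = 1 ∨ ε = -1) (hε : HasSign Q₀ m ε) (c : Fin t → ℕ) (hc : i * ∑ j, c j ≤ 2 * m)
    (hP : i * ∑ j, c j = 2 * m → (-1 : ℤ) ^ (∑ j, c j) = ε) :
    ∃ g : ↥(Cfsg.isometryGroup F ⇑Q₀), g ^ r = 1 ∧
      ((g : GL ι F) : Matrix ι ι F).charpoly = Pc (2 * m) i t f c := by
  have rodd : Odd r := (Fact.out : r.Prime).odd_of_ne_two hr2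
  obtain ⟨m', hm'⟩ : ∃ m', i * ∑ j, c j = m' + m' := hev.mul_right _
  obtain ⟨h, hh, hpow, hch, h1⟩ := exists_h_Pc p H hπ c m' hm'
  obtain ⟨E, hEr, hEc, hnd, hsW⟩ := exists_W_Pc p hr2 H hi hev c m' hm' h hh hpow h1
  have hfr : finrank F (Fin m' ⊕ Fin m' → F) = 2 * m' := finrank_plus m'
  have hσ : ((-1 : ℤ) ^ ∑ j, c j) = 1 ∨ ((-1 : ℤ) ^ ∑ j, c j) = -1 := neg_one_pow_eq_or ℤ _
  by_cases hmm : m' = m
  · -- no fixed space
    subst hmm
    have hεeq : (-1 : ℤ) ^ (∑ j, c j) = ε := hP (by rw [hm']; ring)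
    rw [hεeq] at hsW
    obtain ⟨P, hP1, hP2⟩ := exists_of_sign Q₀ hQ₀ m' hcard ε hε (qW E) hnd hfr hsW E.g E.gi
      (qW_isom E) E.gi_g E.g_gi r hEr
    refine ⟨P, hP1, ?_⟩
    rw [hP2, hEc, hch]
    unfold Pc
    rw [hm', show 2 * m' - (m' + m') = 0 by omega, pow_zero, one_mul]
  · have hlt : m' < m := by omega
    by_cases h2 : (2 : F) = 0
    · -- characteristic two: orthogonal product with a standard space
      obtain ⟨j, hj⟩ : ∃ j, m = m' + j := ⟨m - m', by omega⟩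
      obtain ⟨κ, _, Q₁, hQ₁, hfr₁, hs₁⟩ := exists_std_two h2 j (by omega)
        (((-1 : ℤ) ^ ∑ j, c j) * ε) (by
          rcases hσ with h | h <;> rcases hε1 with h' | h' <;> rw [h, h'] <;> simp)
      have hsP := hasSign_prod_two h2 (qW E) Q₁ m' j hfr hfr₁ _ _ hsW hs₁
      have hεe : ((-1 : ℤ) ^ ∑ j, c j) * (((-1 : ℤ) ^ ∑ j, c j) * ε) = ε := by
        rcases hσ with h | h <;> rw [h] <;> ring
      rw [hεe, ← hj] at hsP
      obtain ⟨P, hP1, hP2⟩ := exists_of_sign Q₀ hQ₀ m hcard ε hε ((qW E).prod Q₁)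
        (nd_prod _ _ hnd hQ₁) (by rw [Module.finrank_prod, hfr, hfr₁, hj]; ring) hsP
        (E.g.prodMap LinearMap.id) (E.gi.prodMap LinearMap.id)
        (fun x => by
          rw [prod_apply, prod_apply, LinearMap.prodMap_apply, qW_isom]
          rfl)
        (fun x => by
          rw [LinearMap.prodMap_apply, LinearMap.prodMap_apply, E.gi_g]
          rfl)
        (fun x => by
          rw [LinearMap.prodMap_apply, LinearMap.prodMap_apply, E.g_gi]
          rfl) r (by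
          apply LinearMap.ext
          intro x
          rw [prodMap_id_pow_apply, hEr, Module.End.one_apply, Module.End.one_apply])
      refine ⟨P, hP1, ?_⟩
      rw [hP2, LinearMap.charpoly_prodMap, hEc, hch]
      have : (LinearMap.id : (κ → F) →ₗ[F] (κ → F)) = 1 := rfl
      rw [this, LinearMap.charpoly_one, hfr₁]
      unfold Pc
      rw [hm', map_one, show 2 * m - (m' + m') = 2 * j by omega, mul_comm]
    · -- odd characteristic: the discriminant argument
      have hodd := odd_card_of_two_ne_zero h2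
      obtain ⟨g, hg, hcg⟩ := (qsOf Q₀ hQ₀).exists_of_symp hodd h2 p m' h hh r rodd hpow h1
        (2 * m - 2 * m' - 1) (by rw [hcard]; omega)
      refine ⟨g, hg, ?_⟩
      rw [hcg, hch]
      unfold Pc
      rw [hm', map_one, show 2 * m - (m' + m') = 2 * m - 2 * m' - 1 + 1 by omega, mul_comm]

end realeven

end Cfsg.Agent.Lib.Helper5.QuadSign
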