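import Mathlib
import Cfsg.Agent.Lib.Helper5.QuadSign.StdMinus
import Cfsg.Agent.Lib.Helper5.QuadTwo.QMat2
import Cfsg.Agent.Lib.Helper5.SemiCount.Star

set_option autoImplicit false

/-!
# Block diagonal isometries `diag(A, A^{-T})` of the standard forms
-/

namespace Cfsg.Agent.Lib.Helper5.QuadSign

open QuadraticMap Module Matrix Polynomial Cfsg
open Cfsg.Agent.Lib.Helper5.QuadTwo Cfsg.Agent.Lib.Helper5.SemiCount

universe u

section blocks
variable {F : Type u} [Field F] {α : Type} [Fintype α] [DecidableEq α]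

/-- `A ↦ diag(A, A^{-T})` -/
noncomputable def dualBlock : GL α F →* GL (α ⊕ α) F :=
  MonoidHom.mk' (fun A => ⟨fromBlocks (A : Matrix α α F) 0 0 ((A⁻¹ : GL α F) : Matrix α α F)ᵀ,
      fromBlocks ((A⁻¹ : GL α F) : Matrix α α F) 0 0 (A : Matrix α α F)ᵀ, by
        rw [fromBlocks_multiply, ← transpose_mul]
        simp only [Matrix.mul_zero, Matrix.zero_mul, add_zero, zero_add]
        rw [← Units.val_mul, mul_inv_cancel, Units.val_one, transpose_one,
          fromBlocks_one], by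
        rw [fromBlocks_multiply, ← transpose_mul]
        simp only [Matrix.mul_zero, Matrix.zero_mul, add_zero, zero_add]
        rw [← Units.val_mul, inv_mul_cancel, Units.val_one, transpose_one,
          fromBlocks_one]⟩) (by
    intro A B
    apply Units.ext
    show fromBlocks ((A * B : GL α F) : Matrix α α F) 0 0 (((A * B)⁻¹ : GL α F) : Matrix α α F)ᵀ =
      fromBlocks (A : Matrix α α F) 0 0 ((A⁻¹ : GL α F) : Matrix α α F)ᵀ *
        fromBlocks (B : Matrix α α F) 0 0 ((B⁻¹ : GL α F) : Matrix α α F)ᵀ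
    rw [fromBlocks_multiply, ← transpose_mul]
    simp only [Matrix.mul_zero, Matrix.zero_mul, add_zero, zero_add]
    rw [_root_.mul_inv_rev, Units.val_mul, Units.val_mul])

theorem dualBlock_val (A : GL α F) :
    ((dualBlock A : GL (α ⊕ α) F) : Matrix (α ⊕ α) (α ⊕ α) F) =
      fromBlocks (A : Matrix α α F) 0 0 ((A⁻¹ : GL α F) : Matrix α α F)ᵀ := rfl

theorem dualBlock_mulVec (A : GL α F) (v : α ⊕ α → F) :
    ((dualBlock A : GL (α ⊕ α) F) : Matrix (α ⊕ α) (α ⊕ α) F) *ᵥ v =
      Sum.elim ((A : Matrix α α F) *ᵥ (v ∘ Sum.inl))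
        (((A⁻¹ : GL α F) : Matrix α α F)ᵀ *ᵥ (v ∘ Sum.inr)) := by
  rw [dualBlock_val, fromBlocks_mulVec, Matrix.zero_mulVec, Matrix.zero_mulVec, add_zero, zero_add]

theorem dualBlock_dot (A : GL α F) (x y : α → F) :
    ((A : Matrix α α F) *ᵥ x) ⬝ᵥ (((A⁻¹ : GL α F) : Matrix α α F)ᵀ *ᵥ y) = x ⬝ᵥ y := by
  rw [mulVec_transpose, dotProduct_comm, ← dotProduct_mulVec, mulVec_mulVec, ← Units.val_mul,
    inv_mul_cancel, Units.val_one, one_mulVec, dotProduct_comm]

theorem dualBlock_charpoly (A : GL α F) :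
    ((dualBlock A : GL (α ⊕ α) F) : Matrix (α ⊕ α) (α ⊕ α) F).charpoly =
      (A : Matrix α α F).charpoly * star (RingHom.id F) (A : Matrix α α F).charpoly := by
  rw [dualBlock_val, charpoly_fromBlocks_zero₁₂,
    ← charpoly_inv_map_transpose (RingHom.id F) (A : Matrix α α F)
      (Matrix.GeneralLinearGroup.det_ne_zero A), Matrix.coe_units_inv]
  congr 2

/-- `M ↦ diag(M, 1)` -/
noncomputable def extBlock (β : Type) [Fintype β] [DecidableEq β] : GL α F →* GL (α ⊕ β) F :=
  MonoidHom.mk' (fun A => ⟨fromBlocks (A : Matrix α α F) 0 0 1,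
      fromBlocks ((A⁻¹ : GL α F) : Matrix α α F) 0 0 1, by
        rw [fromBlocks_multiply]
        simp only [Matrix.mul_zero, Matrix.zero_mul, add_zero, zero_add, Matrix.mul_one]
        rw [← Units.val_mul, mul_inv_cancel, Units.val_one, fromBlocks_one], by
        rw [fromBlocks_multiply]
        simp only [Matrix.mul_zero, Matrix.zero_mul, add_zero, zero_add, Matrix.mul_one]
        rw [← Units.val_mul, inv_mul_cancel, Units.val_one, fromBlocks_one]⟩) (by
    intro A B
    apply Units.ext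
    show fromBlocks ((A * B : GL α F) : Matrix α α F) 0 0 (1 : Matrix β β F) =
      fromBlocks (A : Matrix α α F) 0 0 1 * fromBlocks (B : Matrix α α F) 0 0 1
    rw [fromBlocks_multiply]
    simp only [Matrix.mul_zero, Matrix.zero_mul, add_zero, zero_add, Matrix.mul_one]
    rw [Units.val_mul])

theorem extBlock_val (β : Type) [Fintype β] [DecidableEq β] (A : GL α F) :
    ((extBlock β A : GL (α ⊕ β) F) : Matrix (α ⊕ β) (α ⊕ β) F) =
      fromBlocks (A : Matrix α α F) 0 0 1 := rfl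

theorem extBlock_mulVec (β : Type) [Fintype β] [DecidableEq β] (A : GL α F) (v : α ⊕ β → F) :
    ((extBlock β A : GL (α ⊕ β) F) : Matrix (α ⊕ β) (α ⊕ β) F) *ᵥ v =
      Sum.elim ((A : Matrix α α F) *ᵥ (v ∘ Sum.inl)) (v ∘ Sum.inr) := by
  rw [extBlock_val, fromBlocks_mulVec, Matrix.zero_mulVec, Matrix.zero_mulVec, add_zero, zero_add,
    one_mulVec]

theorem extBlock_charpoly (β : Type) [Fintype β] [DecidableEq β] (A : GL α F) :
    ((extBlock β A : GL (α ⊕ β) F) : Matrix (α ⊕ β) (α ⊕ β) F).charpoly =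
      (A : Matrix α α F).charpoly * (X - 1) ^ Fintype.card β := by
  rw [extBlock_val, charpoly_fromBlocks_zero₁₂, charpoly_one]

end blocks

section std
variable {F : Type u} [Field F] (m : ℕ)

theorem dualBlock_mem (A : GL (Fin m) F) :
    dualBlock A ∈ Cfsg.isometryGroup F (quadFormPlus m F) := by
  rw [mem_iso_iff]
  intro v
  rw [dualBlock_mulVec]
  show (∑ i : Fin m, ((A : Matrix (Fin m) (Fin m) F) *ᵥ (v ∘ Sum.inl)) i *
    ((((A⁻¹ : GL (Fin m) F) : Matrix (Fin m) (Fin m) F)ᵀ *ᵥ (v ∘ Sum.inr)) i)) =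
    ∑ i : Fin m, v (.inl i) * v (.inr i)
  exact dualBlock_dot A (v ∘ Sum.inl) (v ∘ Sum.inr)

/-- `A ↦ diag(A, A^{-T})` into the isometry group of `quadFormPlus` -/
noncomputable def plusBlock : GL (Fin m) F →* ↥(Cfsg.isometryGroup F (quadFormPlus m F)) :=
  dualBlock.codRestrict _ (dualBlock_mem m)

theorem plusBlock_val (A : GL (Fin m) F) :
    ((plusBlock m A : ↥(Cfsg.isometryGroup F (quadFormPlus m F))) : GL (Fin m ⊕ Fin m) F) =
      dualBlock A := rfl

theorem minusBlock_mem (a c : F) (A : GL (Fin m) F) :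
    extBlock (Fin 2) (dualBlock A) ∈ Cfsg.isometryGroup F (quadFormMinus m F a c) := by
  rw [mem_iso_iff]
  intro v
  rw [extBlock_mulVec]
  show qMinus m a c _ = qMinus m a c v
  rw [qMinus_apply, qMinus_apply]
  congr 1
  have h1 := (mem_iso_iff (quadFormPlus m F) (dualBlock A)).1 (dualBlock_mem m A) (v ∘ Sum.inl)
  exact h1

/-- `A ↦ diag(A, A^{-T}, 1)` into the isometry group of `quadFormMinus` -/
noncomputable def minusBlock (a c : F) :
    GL (Fin m) F →* ↥(Cfsg.isometryGroup F (quadFormMinus m F a c)) :=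
  ((extBlock (Fin 2)).comp dualBlock).codRestrict _ (minusBlock_mem m a c)

theorem minusBlock_val (a c : F) (A : GL (Fin m) F) :
    ((minusBlock m a c A : ↥(Cfsg.isometryGroup F (quadFormMinus m F a c))) :
      GL ((Fin m ⊕ Fin m) ⊕ Fin 2) F) = extBlock (Fin 2) (dualBlock A) := rfl

end std

end Cfsg.Agent.Lib.Helper5.QuadSign
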