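import Mathlib
import Cfsg.Agent.Lib.Helper5.QuadSign.Blocks
import Cfsg.Agent.Lib.Helper5.OrthPrime.OExist

set_option autoImplicit false

/-!
# Realising exponent vectors in `O^±_{2m}(q)` when `q` has odd order modulo `r`
-/

namespace Cfsg.Agent.Lib.Helper5.QuadSign

open QuadraticMap Module Matrix Polynomial Cfsg
open Cfsg.Agent.Lib.Helper5.QuadTwo Cfsg.Agent.Lib.Helper5.SemiCount
open Cfsg.Agent.Lib.Helper5.OrthPrime
open Cfsg.Agent.Lib.Helper4.PrimeOrd Cfsg.Agent.Lib.Helper4.SemiMod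

universe u

section pc
variable {F : Type u} [Field F] {i t : ℕ} {f : Fin t → F[X]}

theorem Pc_mul (n n' : ℕ) (c c' : Fin t → ℕ) (hc : i * ∑ j, c j ≤ n)
    (hc' : i * ∑ j, c' j ≤ n') :
    Pc n i t f c * Pc n' i t f c' = Pc (n + n') i t f (c + c') := by
  unfold Pc
  have h1 : ∑ j, (c + c') j = ∑ j, c j + ∑ j, c' j := by
    simp only [Pi.add_apply]
    exact Finset.sum_add_distrib
  have h2 : ∏ j, f j ^ (c + c') j = (∏ j, f j ^ c j) * ∏ j, f j ^ c' j := by
    simp only [Pi.add_apply, pow_add]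
    exact Finset.prod_mul_distrib
  have h3 : n + n' - i * (∑ j, c j + ∑ j, c' j) = (n - i * ∑ j, c j) + (n' - i * ∑ j, c' j) := by
    rw [mul_add]
    omega
  rw [h1, h2, h3, pow_add]
  ring

theorem Pc_mul_pow [Fintype F] (n k : ℕ) (c : Fin t → ℕ) (hc : i * ∑ j, c j ≤ n) :
    Pc n i t f c * (X - 1) ^ k = Pc (n + k) i t f c := by
  have h := Pc_mul (f := f) n k c 0 hc (by simp)
  rw [Pc_zero, add_zero, map_one] at h
  exact h

/-- half of an invariant exponent vector -/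
def halfVec (π : Fin t → Fin t) (c : Fin t → ℕ) : Fin t → ℕ := fun j => if j < π j then c j else 0

theorem halfVec_add (π : Fin t → Fin t) (hπi : Function.Involutive π) (hfp : ∀ j, π j ≠ j)
    (c : Fin t → ℕ) (hc : ∀ j, c (π j) = c j) :
    halfVec π c + (fun j => halfVec π c (π j)) = c := by
  funext j
  simp only [Pi.add_apply, halfVec]
  rw [hπi j]
  by_cases h : j < π j
  · rw [if_pos h, if_neg (lt_asymm h), add_zero]
  · have h' : π j < j := lt_of_le_of_ne (not_lt.1 h) (hfp j)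
    rw [if_neg h, if_pos h', zero_add, hc]

theorem sum_halfVec (π : Fin t → Fin t) (hπi : Function.Involutive π) (hfp : ∀ j, π j ≠ j)
    (c : Fin t → ℕ) (hc : ∀ j, c (π j) = c j) : 2 * ∑ j, halfVec π c j = ∑ j, c j := by
  conv_rhs => rw [← halfVec_add π hπi hfp c hc]
  simp only [Pi.add_apply]
  have e : ∑ x, halfVec π c (π x) = ∑ x, halfVec π c x :=
    Equiv.sum_comp hπi.toPerm (halfVec π c)
  rw [Finset.sum_add_distrib, e, two_mul]

end pc

section realodd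
variable {F : Type u} [Field F] [Fintype F] (p : ℕ) [Fact p.Prime] [CharP F p]
  {r i t : ℕ} {f : Fin t → F[X]}

include p in
/-- a matrix of order dividing `r` with prescribed characteristic polynomial -/
theorem exists_gl_pow_Pc (H : FamHyp r i t f) (n : ℕ) (d : Fin t → ℕ) (hd : i * ∑ j, d j ≤ n) :
    ∃ A : GL (Fin n) F, A ^ r = 1 ∧
      (A : Matrix (Fin n) (Fin n) F).charpoly = Pc n i t f d := by
  obtain ⟨A, hA, hAo⟩ := exists_gl p n (Pc n i t f d) (Pc_monic H d) (Pc_natDegree H d hd)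
    (Pc_coeff_zero H d)
  exact ⟨A, gl_pow_eq_one_of_Pc p H A hAo d hA, hA⟩

omit [Fintype F] in
theorem dualBlock_charpoly_Pc (_H : FamHyp r i t f) (π : Fin t → Fin t)
    (hπi : Function.Involutive π) (hπ : ∀ j, star (RingHom.id F) (f j) = f (π j))
    (hfp : ∀ j, π j ≠ j) (n : ℕ) (c : Fin t → ℕ) (hcπ : ∀ j, c (π j) = c j)
    (hd : i * ∑ j, halfVec π c j ≤ n) (A : GL (Fin n) F)
    (hA : (A : Matrix (Fin n) (Fin n) F).charpoly = Pc n i t f (halfVec π c)) :
    ((dualBlock A : GL (Fin n ⊕ Fin n) F) : Matrix (Fin n ⊕ Fin n) (Fin n ⊕ Fin n) F).charpoly =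
      Pc (2 * n) i t f c := by
  have e : ∑ x, halfVec π c (π x) = ∑ x, halfVec π c x :=
    Equiv.sum_comp hπi.toPerm (halfVec π c)
  rw [dualBlock_charpoly, hA, star_Pc (RingHom.id F) π hπi hπ, Pc_mul n n _ _ hd (by
    rw [e]
    exact hd), halfVec_add π hπi hfp c hcπ, two_mul]

include p in
theorem exists_plus_Pc_odd (H : FamHyp r i t f) (π : Fin t → Fin t)
    (hπi : Function.Involutive π) (hπ : ∀ j, star (RingHom.id F) (f j) = f (π j))
    (hfp : ∀ j, π j ≠ j) (m : ℕ) (c : Fin t → ℕ) (hc : i * ∑ j, c j ≤ 2 * m)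
    (hcπ : ∀ j, c (π j) = c j) :
    ∃ g : ↥(Cfsg.isometryGroup F (quadFormPlus m F)), g ^ r = 1 ∧
      ((g : GL (Fin m ⊕ Fin m) F) : Matrix (Fin m ⊕ Fin m) (Fin m ⊕ Fin m) F).charpoly =
        Pc (2 * m) i t f c := by
  have hs := sum_halfVec π hπi hfp c hcπ
  have hd : i * ∑ j, halfVec π c j ≤ m := by
    have : i * ∑ j, c j = 2 * (i * ∑ j, halfVec π c j) := by rw [← hs]; ring
    omega
  obtain ⟨A, hAr, hA⟩ := exists_gl_pow_Pc p H m (halfVec π c) hd
  refine ⟨plusBlock m A, by rw [← map_pow, hAr, map_one], ?_⟩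
  rw [plusBlock_val]
  exact dualBlock_charpoly_Pc H π hπi hπ hfp m c hcπ hd A hA

include p in
theorem exists_minus_Pc_odd (H : FamHyp r i t f) (π : Fin t → Fin t)
    (hπi : Function.Involutive π) (hπ : ∀ j, star (RingHom.id F) (f j) = f (π j))
    (hfp : ∀ j, π j ≠ j) (m : ℕ) (a c' : F) (c : Fin t → ℕ)
    (hc : i * ∑ j, c j ≤ 2 * (m + 1)) (hne : i * ∑ j, c j ≠ 2 * (m + 1))
    (hcπ : ∀ j, c (π j) = c j) :
    ∃ g : ↥(Cfsg.isometryGroup F (quadFormMinus m F a c')), g ^ r = 1 ∧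
      ((g : GL ((Fin m ⊕ Fin m) ⊕ Fin 2) F) :
        Matrix ((Fin m ⊕ Fin m) ⊕ Fin 2) ((Fin m ⊕ Fin m) ⊕ Fin 2) F).charpoly =
        Pc (2 * (m + 1)) i t f c := by
  have hs := sum_halfVec π hπi hfp c hcπ
  have h2 : i * ∑ j, c j = 2 * (i * ∑ j, halfVec π c j) := by rw [← hs]; ring
  have hd : i * ∑ j, halfVec π c j ≤ m := by omega
  obtain ⟨A, hAr, hA⟩ := exists_gl_pow_Pc p H m (halfVec π c) hd
  refine ⟨minusBlock m a c' A, by rw [← map_pow, hAr, map_one], ?_⟩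
  rw [minusBlock_val, extBlock_charpoly, dualBlock_charpoly_Pc H π hπi hπ hfp m c hcπ hd A hA,
    Fintype.card_fin, Pc_mul_pow (2 * m) 2 c (by omega)]
  rfl

end realodd

end Cfsg.Agent.Lib.Helper5.QuadSign
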