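import Mathlib
import Cfsg.Agent.Lib.Helper5.QuadSign.RealEven
import Cfsg.Agent.Lib.Helper5.QuadSign.RealOdd
import Cfsg.Agent.Lib.Helper5.QuadSign.Cons
import Cfsg.Agent.Lib.Helper5.QuadSign.CountP

set_option autoImplicit false

/-!
# Classes of odd prime order in the even-dimensional orthogonal groups
-/

namespace Cfsg.Agent.Lib.Helper5.QuadSign

open QuadraticMap Module Matrix Polynomial Cfsg
open Cfsg.Agent.Lib.Helper5.QuadTwo Cfsg.Agent.Lib.Helper5.SemiConj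
open Cfsg.Agent.Lib.Helper5.SemiCount Cfsg.Agent.Lib.Helper5.OrthPrime
open Cfsg.Agent.Lib.Helper4.PrimeOrd Cfsg.Agent.Lib.Helper4.SemiMod

universe u

section main
variable {F : Type u} [Field F] [Fintype F] (p : ℕ) [Fact p.Prime] [CharP F p]
variable {ι : Type} [Fintype ι] [DecidableEq ι]

include p in
/-- the family of irreducible factors of `X ^ r - 1` with its duality -/
theorem family_setup {q : ℕ} (hF : Fintype.card F = q) (r i t : ℕ) (hr : r.Prime) (hr2 : r ≠ 2)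
    (hrp : r ≠ p) (hi : i = orderOf (q : ZMod r)) (ht : t * i = r - 1) :
    (r : F) ≠ 0 ∧ orderOf ((Fintype.card F : ℕ) : ZMod r) = i ∧ 1 ≤ t ∧
      ∃ f : Fin t → F[X], FamHyp r i t f ∧ ∃ π : Fin t → Fin t, Function.Involutive π ∧
        (∀ j, star (RingHom.id F) (f j) = f (π j)) ∧ (Even i → π = id) ∧
        (¬ Even i → ∀ j, π j ≠ j) := by
  have hp : p.Prime := Fact.out
  have : Fact r.Prime := ⟨hr⟩
  have r0 : (r : F) ≠ 0 := by
    intro h
    have h1 := (CharP.cast_eq_zero_iff F p r).mp h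
    exact hrp ((Nat.prime_dvd_prime_iff_eq hp hr).mp h1).symm
  have hqr : (q : ZMod r) ≠ 0 := by
    obtain ⟨k, -, hk⟩ := FiniteField.card F p
    rw [Ne, ZMod.natCast_eq_zero_iff, ← hF, hk]
    intro h
    exact hrp ((Nat.prime_dvd_prime_iff_eq hr hp).mp (hr.dvd_of_dvd_pow h))
  have hi' : i = orderOf ((Fintype.card F : ℕ) : ZMod r) := by rw [hF]; exact hi
  have ht1 : 1 ≤ t := by
    rcases Nat.eq_zero_or_pos t with h | h
    · rw [h, zero_mul] at ht
      have := hr.two_le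
      omega
    · exact h
  obtain ⟨f, H⟩ := exists_family (F := F) p r i t hr hrp hi' ht
  have hσ2 : ∀ a : F, (RingHom.id F) ((RingHom.id F) a) = a := fun a => rfl
  obtain ⟨π, hπi, hπ⟩ := exists_dual_perm (RingHom.id F) hσ2 H
  have htype : ∀ j, star (RingHom.id F) (f j) = f j ↔ Even i := by
    intro j
    rw [star_eq_self_iff p (RingHom.id F) hσ2 hr 0 (pow_zero p).symm
      (fun a => (pow_one a).symm) (H.monic j) (H.irr j) (H.dvd j) (H.ne1 j), hF, hi]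
    exact exists_dvd_pow_add_one_iff hr2 q hqr
  refine ⟨r0, hi'.symm, ht1, f, H, π, hπi, hπ, ?_, ?_⟩
  · intro hev
    funext j
    apply H.inj
    rw [← hπ j]
    exact (htype j).mpr hev
  · intro hev j hj
    apply hev
    rw [← htype j, hπ j, hj]

include p in
/-- **The class count when `i` is even.** -/
theorem card_even_classes {q : ℕ} (hF : Fintype.card F = q) (Q₀ : QuadraticForm F (ι → F))
    (hQ₀ : Nd Q₀) (m : ℕ) (hm : 0 < m) (hcard : Fintype.card ι = 2 * m) (ε : ℤ)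
    (hε1 : ε = 1 ∨ ε = -1) (hε : HasSign Q₀ m ε) (r i t : ℕ) (hr : r.Prime) (hr2 : r ≠ 2)
    (hrp : r ≠ p) (hi : i = orderOf (q : ZMod r)) (ht : t * i = r - 1) (hev : Even i) :
    Nat.card {C : ConjClasses ↥(Cfsg.isometryGroup F ⇑Q₀) //
      ∃ g : ↥(Cfsg.isometryGroup F ⇑Q₀), ConjClasses.mk g = C ∧ orderOf g = r} =
      (2 * m / i + t).choose t - 1 -
        (if i ∣ 2 * m ∧ (-1 : ℤ) ^ (2 * m / i) ≠ ε then (2 * m / i + t - 1).choose (t - 1)
          else 0) := by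
  classical
  have : Fact r.Prime := ⟨hr⟩
  have rodd : Odd r := hr.odd_of_ne_two hr2
  obtain ⟨r0, hi', ht1, f, H, π, hπi, hπ, hπe, -⟩ := family_setup p hF r i t hr hr2 hrp hi ht
  have hπid := hπe hev
  subst hπid
  obtain ⟨e⟩ : Nonempty (ι ≃ Fin (2 * m)) := ⟨Fintype.equivFinOfCardEq hcard⟩
  have key : Nat.card {C : ConjClasses ↥(Cfsg.isometryGroup F (qsOf Q₀ hQ₀).Q) //
      ∃ g : ↥(Cfsg.isometryGroup F (qsOf Q₀ hQ₀).Q), ConjClasses.mk g = C ∧ orderOf g = r} =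
      Nat.card {c : Fin t → ℕ // ∑ j, c j ≤ 2 * m / i ∧ c ≠ 0 ∧ (∀ j, c (id j) = c j) ∧
        (i * ∑ j, c j = 2 * m → (-1 : ℤ) ^ (∑ j, c j) = ε)} := by
    apply card_classes_dual_pred ((qsOf Q₀ hQ₀).toGL e) H hr id
      (fun c => i * ∑ j, c j = 2 * m → (-1 : ℤ) ^ (∑ j, c j) = ε)
    · intro g hg
      obtain ⟨c, hc, hcπ, hcp⟩ := charpoly_star_of_pc (RingHom.id F) H id hπi hπ
        ((qsOf Q₀ hQ₀).toGL e g) (by rw [← map_pow, hg, map_one]) (by
          rw [QSpace.toGL_charpoly]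
          exact (qsOf Q₀ hQ₀).charpoly_star g)
      refine ⟨c, hc, hcπ, ?_, hcp⟩
      intro hfull
      rw [QSpace.toGL_charpoly] at hcp
      exact sign_constraint hr2 r0 H hi' hev Q₀ hQ₀ m ε hε1 hε g hg c hcp hfull
    · intro g h hg hh hc
      rw [QSpace.toGL_charpoly, QSpace.toGL_charpoly] at hc
      exact isConj_of_charpoly_eq_all Q₀ hQ₀ g h r rodd r0 hg hh hc
    · intro c hc _ hP
      obtain ⟨g, hg, hcg⟩ : ∃ g : ↥(Cfsg.isometryGroup F (qsOf Q₀ hQ₀).Q), g ^ r = 1 ∧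
          ((g : GL ι F) : Matrix ι ι F).charpoly = Pc (2 * m) i t f c :=
        exists_even_Pc p hr2 H hπ hi' hev Q₀ hQ₀ m hcard ε hε1 hε c hc hP
      exact ⟨g, hg, by rw [QSpace.toGL_charpoly]; exact hcg⟩
  change Nat.card {C : ConjClasses ↥(Cfsg.isometryGroup F (qsOf Q₀ hQ₀).Q) //
      ∃ g : ↥(Cfsg.isometryGroup F (qsOf Q₀ hQ₀).Q), ConjClasses.mk g = C ∧ orderOf g = r} = _
  rw [key, card_pred_id t (2 * m / i) i (2 * m) ε ht1 H.ipos (by omega) rfl]

include p in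
/-- **The class count in `O⁺`, `i` odd.** -/
theorem card_plus_odd_classes {q : ℕ} (hF : Fintype.card F = q) (m : ℕ) (r i t : ℕ)
    (hr : r.Prime) (hr2 : r ≠ 2) (hrp : r ≠ p) (hi : i = orderOf (q : ZMod r))
    (ht : t * i = r - 1) (hodd : Odd i) :
    Nat.card {C : ConjClasses ↥(Cfsg.isometryGroup F (Cfsg.quadFormPlus m F)) //
      ∃ g : ↥(Cfsg.isometryGroup F (Cfsg.quadFormPlus m F)), ConjClasses.mk g = C ∧
        orderOf g = r} = (m / i + t / 2).choose (t / 2) - 1 := by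
  classical
  have : Fact r.Prime := ⟨hr⟩
  have rodd : Odd r := hr.odd_of_ne_two hr2
  obtain ⟨r0, hi', ht1, f, H, π, hπi, hπ, -, hπo⟩ := family_setup p hF r i t hr hr2 hrp hi ht
  have hfp := hπo (Nat.not_even_iff_odd.mpr hodd)
  have hcard : Fintype.card (Fin m ⊕ Fin m) = 2 * m := by
    rw [Fintype.card_sum, Fintype.card_fin]
    ring
  obtain ⟨e⟩ : Nonempty ((Fin m ⊕ Fin m) ≃ Fin (2 * m)) := ⟨Fintype.equivFinOfCardEq hcard⟩
  have hQ₀ := nd_qPlus (F := F) m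
  have key : Nat.card {C : ConjClasses ↥(Cfsg.isometryGroup F (qsOf (qPlus m) hQ₀).Q) //
      ∃ g : ↥(Cfsg.isometryGroup F (qsOf (qPlus m) hQ₀).Q), ConjClasses.mk g = C ∧
        orderOf g = r} =
      Nat.card {c : Fin t → ℕ // ∑ j, c j ≤ 2 * m / i ∧ c ≠ 0 ∧ ∀ j, c (π j) = c j} := by
    apply card_classes_dual' ((qsOf (qPlus m) hQ₀).toGL e) H hr π
    · intro g hg
      apply charpoly_star_of_pc (RingHom.id F) H π hπi hπ _ (by rw [← map_pow, hg, map_one])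
      rw [QSpace.toGL_charpoly]
      exact (qsOf (qPlus m) hQ₀).charpoly_star g
    · intro g h hg hh hc
      rw [QSpace.toGL_charpoly, QSpace.toGL_charpoly] at hc
      exact isConj_of_charpoly_eq_all (qPlus m) hQ₀ g h r rodd r0 hg hh hc
    · intro c hc hcπ
      obtain ⟨g, hg, hcg⟩ : ∃ g : ↥(Cfsg.isometryGroup F (qsOf (qPlus m) hQ₀).Q), g ^ r = 1 ∧
          ((g : GL (Fin m ⊕ Fin m) F) : Matrix (Fin m ⊕ Fin m) (Fin m ⊕ Fin m) F).charpoly =
            Pc (2 * m) i t f c :=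
        exists_plus_Pc_odd p H π hπi hπ hfp m c hc hcπ
      exact ⟨g, hg, by rw [QSpace.toGL_charpoly]; exact hcg⟩
  change Nat.card {C : ConjClasses ↥(Cfsg.isometryGroup F (qsOf (qPlus m) hQ₀).Q) //
      ∃ g : ↥(Cfsg.isometryGroup F (qsOf (qPlus m) hQ₀).Q), ConjClasses.mk g = C ∧
        orderOf g = r} = _
  rw [key, card_dual_fpf π hπi hfp, Nat.div_div_eq_div_mul, mul_comm i 2,
    ← Nat.div_div_eq_div_mul, Nat.mul_div_cancel_left _ (by norm_num : 0 < 2)]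

include p in
/-- **The class count in `O⁻`, `i` odd.** -/
theorem card_minus_odd_classes {q : ℕ} (hF : Fintype.card F = q) (m : ℕ) (a c' : F)
    (hac : ∀ z₁ z₂ : F, z₁ ^ 2 + a * z₁ * z₂ + c' * z₂ ^ 2 = 0 → z₁ = 0 ∧ z₂ = 0)
    (r i t : ℕ) (hr : r.Prime) (hr2 : r ≠ 2) (hrp : r ≠ p) (hi : i = orderOf (q : ZMod r))
    (ht : t * i = r - 1) (hodd : Odd i) :
    Nat.card {C : ConjClasses ↥(Cfsg.isometryGroup F (Cfsg.quadFormMinus m F a c')) //
      ∃ g : ↥(Cfsg.isometryGroup F (Cfsg.quadFormMinus m F a c')), ConjClasses.mk g = C ∧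
        orderOf g = r} =
      ((m + 1) / i + t / 2).choose (t / 2) - 1 -
        (if i ∣ (m + 1) then ((m + 1) / i + t / 2 - 1).choose (t / 2 - 1) else 0) := by
  classical
  have : Fact r.Prime := ⟨hr⟩
  have rodd : Odd r := hr.odd_of_ne_two hr2
  obtain ⟨r0, hi', ht1, f, H, π, hπi, hπ, -, hπo⟩ := family_setup p hF r i t hr hr2 hrp hi ht
  have hfp := hπo (Nat.not_even_iff_odd.mpr hodd)
  have ht2 : 2 ≤ t := by
    rcases Nat.lt_or_ge t 2 with h | h
    · exfalso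
      have ht1' : t = 1 := by omega
      subst ht1'
      exact hfp 0 (Subsingleton.elim _ _)
    · exact h
  have hcard : Fintype.card ((Fin m ⊕ Fin m) ⊕ Fin 2) = 2 * (m + 1) := by
    rw [Fintype.card_sum, Fintype.card_sum, Fintype.card_fin, Fintype.card_fin]
    ring
  obtain ⟨e⟩ : Nonempty (((Fin m ⊕ Fin m) ⊕ Fin 2) ≃ Fin (2 * (m + 1))) :=
    ⟨Fintype.equivFinOfCardEq hcard⟩
  have hQ₀ := nd_qMinus (F := F) m hac
  have key : Nat.card {C : ConjClasses ↥(Cfsg.isometryGroup F (qsOf (qMinus m a c') hQ₀).Q) //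
      ∃ g : ↥(Cfsg.isometryGroup F (qsOf (qMinus m a c') hQ₀).Q), ConjClasses.mk g = C ∧
        orderOf g = r} =
      Nat.card {c : Fin t → ℕ // ∑ j, c j ≤ 2 * (m + 1) / i ∧ c ≠ 0 ∧ (∀ j, c (π j) = c j) ∧
        i * ∑ j, c j ≠ 2 * (m + 1)} := by
    apply card_classes_dual_pred ((qsOf (qMinus m a c') hQ₀).toGL e) H hr π
      (fun c => i * ∑ j, c j ≠ 2 * (m + 1))
    · intro g hg
      obtain ⟨c, hc, hcπ, hcp⟩ := charpoly_star_of_pc (RingHom.id F) H π hπi hπ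
        ((qsOf (qMinus m a c') hQ₀).toGL e g) (by rw [← map_pow, hg, map_one]) (by
          rw [QSpace.toGL_charpoly]
          exact (qsOf (qMinus m a c') hQ₀).charpoly_star g)
      refine ⟨c, hc, hcπ, ?_, hcp⟩
      intro hfull
      rw [QSpace.toGL_charpoly] at hcp
      have h1 := hasSign_of_dual_pairs r0 H π hπi hπ hfp (qMinus m a c') hQ₀ (m + 1) hcard g hg c
        hcπ hcp hfull
      have h2 := h1.unique (hasSign_qMinus m hac)
      norm_num at h2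
    · intro g h hg hh hc
      rw [QSpace.toGL_charpoly, QSpace.toGL_charpoly] at hc
      exact isConj_of_charpoly_eq_all (qMinus m a c') hQ₀ g h r rodd r0 hg hh hc
    · intro c hc hcπ hP
      obtain ⟨g, hg, hcg⟩ : ∃ g : ↥(Cfsg.isometryGroup F (qsOf (qMinus m a c') hQ₀).Q),
          g ^ r = 1 ∧ ((g : GL ((Fin m ⊕ Fin m) ⊕ Fin 2) F) :
            Matrix ((Fin m ⊕ Fin m) ⊕ Fin 2) ((Fin m ⊕ Fin m) ⊕ Fin 2) F).charpoly =
            Pc (2 * (m + 1)) i t f c :=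
        exists_minus_Pc_odd p H π hπi hπ hfp m a c' c hc hP hcπ
      exact ⟨g, hg, by rw [QSpace.toGL_charpoly]; exact hcg⟩
  change Nat.card {C : ConjClasses ↥(Cfsg.isometryGroup F (qsOf (qMinus m a c') hQ₀).Q) //
      ∃ g : ↥(Cfsg.isometryGroup F (qsOf (qMinus m a c') hQ₀).Q), ConjClasses.mk g = C ∧
        orderOf g = r} = _
  rw [key, card_pred_fpf π hπi hfp i (m + 1) hodd (by omega) ht2]

end main

end Cfsg.Agent.Lib.Helper5.QuadSign
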